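import Cfsg.Agent.Lib.PSUAut.Structure

/-!
An automorphism of `PSU₃(q)`, `q` even, that fixes a transvection group and has an odd power
induced by `GU₃(q)` is induced by `GU₃(q)`.
-/

set_option autoImplicit false
set_option linter.unusedSectionVars false
set_option linter.style.haveILetI false

namespace Cfsg.Agent.Lib.UThreeTwoRecog26

open Matrix Cfsg.Agent.Lib.PSUAut

variable {F : Type*} [Field F] [Fintype F] [CharP F 2] {q : ℕ} (hF : Fintype.card F = q ^ 2)

local notation "V" => (Fin 3 → F)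
local notation "B₃" => Cfsg.hermForm 3 F q
local notation "AUT" => MulAut (Cfsg.PSU 3 F q)

/-- An isotropic vector. -/
def isoVec : V := ![1, 1, 0]

/-- The transvection class with parameter `c`. -/
noncomputable def tvec (c : F) : Cfsg.PSU 3 F q := tp isoVec c

include hF

theorem q_pos : 0 < q := by
  have := Forms.two_le_of_card_sq hF; omega

theorem isoVec_iso : B₃ isoVec isoVec = 0 := by
  have := q_pos hF
  simp [Cfsg.hermForm, isoVec, Fin.sum_univ_three, this.ne', CharTwo.add_self_eq_zero]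

theorem herm_x0 : B₃ ![1, 0, 0] isoVec = 1 := by
  have := q_pos hF
  simp [Cfsg.hermForm, isoVec, Fin.sum_univ_three, this.ne']

theorem fixed_add {c : F} (hc : c ^ q = c) : c + c ^ q = 0 := by
  rw [hc, CharTwo.add_self_eq_zero]

theorem herm_add_self {u : V} (hu : B₃ u u = 0) (x : V) (r : F) :
    B₃ (x + r • u) u = B₃ x u := by
  simp [Cfsg.hermForm, Fin.sum_univ_three] at hu ⊢
  linear_combination r * hu

theorem act_tv_twice {u : V} {c : F} (hu : B₃ u u = 0) (hc : c + c ^ q = 0) (x : V) :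
    act (eich u 0 c : SUType 3 F q) (act (eich u 0 c : SUType 3 F q) x) = x := by
  have h := herm (n := 3) hF
  rw [act_tv hF hu hc, act_tv hF hu hc]
  have e := herm_add_self hF hu x (c * B₃ x u)
  rw [e, add_assoc, ← add_smul, CharTwo.add_self_eq_zero, zero_smul, add_zero]

/-- Transvection classes determine the transvections. -/
theorem tv_eq_of_proj_eq {u v : V} {c d : F} (hu : B₃ u u = 0) (hv : B₃ v v = 0)
    (hc : c + c ^ q = 0) (hd : d + d ^ q = 0)
    (h : proj (eich u 0 c : SUType 3 F q) = proj (eich v 0 d : SUType 3 F q)) (x : V) :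
    (c * B₃ x u) • u = (d * B₃ x v) • v := by
  obtain ⟨a, ha⟩ := exists_scalar_of_proj_eq hF h
  have hsm : ∀ (s : SUType 3 F q) (r : F) (y : V), act s (r • y) = r • act s y :=
    fun s r y => map_smul _ r y
  have ha1 : a = 1 := by
    have h2 := act_tv_twice hF hv hd ![1, 0, 0]
    rw [ha, ha, hsm, act_tv_twice hF hu hc, smul_smul] at h2
    have h3 := congrFun h2 0
    simp at h3
    rcases mul_self_eq_one_iff.1 h3 with h4 | h4
    · exact h4
    · rwa [CharTwo.neg_eq] at h4
  have := ha x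
  rw [ha1, one_smul, act_tv hF hu hc, act_tv hF hv hd] at this
  exact (add_left_cancel this).symm

theorem tvec_ne_one {c : F} (hc : c ^ q = c) (hc0 : c ≠ 0) : tvec (q := q) c ≠ 1 := by
  intro h1
  have h0 : (0 : F) + 0 ^ q = 0 := by simp [(q_pos hF).ne']
  have e : proj (eich (isoVec (F := F)) 0 0 : SUType 3 F q) = 1 := by
    refine (congrArg proj (act_ext (t := 1) fun v => ?_)).trans (map_one _)
    rw [act_tv hF (isoVec_iso hF) h0, act_one, zero_mul, zero_smul, add_zero]
  have h := tv_eq_of_proj_eq hF (isoVec_iso hF) (isoVec_iso hF) (fixed_add hF hc) h0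
    (h1.trans e.symm) ![1, 0, 0]
  rw [herm_x0 hF] at h
  have := congrFun h 0
  simp [isoVec] at this
  exact hc0 this

theorem tvec_mul_self {c : F} (hc : c ^ q = c) : tvec (q := q) c * tvec c = 1 := by
  rw [tvec, tp, ← map_mul]
  refine (congrArg proj (act_ext fun v => ?_)).trans (map_one _)
  rw [act_mul, act_one, act_tv_twice hF (isoVec_iso hF) (fixed_add hF hc)]

theorem tvec_comm {c d : F} (hc : c ^ q = c) (hd : d ^ q = d) :
    Commute (tvec (q := q) c) (tvec d) := by
  show tvec c * tvec d = tvec d * tvec c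
  rw [tvec, tvec, tp, tp, ← map_mul, ← map_mul]
  refine congrArg proj (act_ext fun v => ?_)
  have hu := isoVec_iso hF
  rw [act_mul, act_mul]
  simp only [act_tv hF hu (fixed_add hF hc), act_tv hF hu (fixed_add hF hd)]
  rw [herm_add_self hF hu, herm_add_self hF hu]
  exact add_right_comm _ _ _

theorem field_sq_eq_one {σ : F ≃+* F} (h : ∀ c : F, c ^ q = c → σ c = c) : σ * σ = 1 := by
  have hqq : ∀ x : F, (x ^ q) ^ q = x := fun x => Forms.pow_q_pow_q hF x
  refine RingEquiv.ext fun x => ?_
  show σ (σ x) = x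
  have h1 := h (x * x ^ q) (by rw [mul_pow, hqq, mul_comm])
  have hadd : ∀ a b : F, (a + b) ^ q = a ^ q + b ^ q := fun a b => by
    rw [← Forms.qPowHom_apply hF, ← Forms.qPowHom_apply hF, ← Forms.qPowHom_apply hF, map_add]
  have h2 := h (x + x ^ q) (by rw [hadd, hqq, add_comm])
  rw [map_mul, map_pow] at h1
  rw [map_add, map_pow] at h2
  have h3 : (σ x - x) * (σ x - x ^ q) = 0 := by linear_combination σ x * h2 - h1
  rcases mul_eq_zero.1 h3 with h4 | h4
  · rw [sub_eq_zero.1 h4, sub_eq_zero.1 h4]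
  · rw [sub_eq_zero.1 h4, map_pow, sub_eq_zero.1 h4, hqq]

theorem mem_range_of_fix [Fact (Nat.Prime 2)] (hq : q ≠ 2) {α : AUT}
    (hfix : ∀ c : F, c ^ q = c → c ≠ 0 → α (tvec c) = tvec c) {d : ℕ} (hd : Odd d)
    (hpow : α ^ d ∈ (conj : GUType 3 F q →* AUT).range) :
    α ∈ (conj : GUType 3 F q →* AUT).range := by
  obtain ⟨g, σ, rfl⟩ := exists_eq_conj_mul_fieldAut (p := 2) hF le_rfl (fun h => hq h.2) α
  set u' : V := semi g σ isoVec with hu'
  have hu'0 : B₃ u' u' = 0 := by rw [hu', semi_form, isoVec_iso hF, map_zero]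
  have key : ∀ c : F, c ^ q = c → c ≠ 0 → ∀ x : V,
      (σ c * B₃ x u') • u' = (c * B₃ x isoVec) • isoVec := by
    intro c hc hc0 x
    have hh := hfix c hc hc0
    rw [tvec, tp, ind_proj, ind_eich hF g σ (isoVec_iso hF) ((herm hF).zero_left _)
      (by rw [(herm hF).zero_left, add_zero, fixed_add hF hc])] at hh
    have h0 : semi g σ (0 : V) = 0 := by simpa using semi_smul g σ 0 (0 : V)
    rw [h0] at hh
    exact tv_eq_of_proj_eq hF hu'0 (isoVec_iso hF)
      (by rw [← map_pow, ← map_add, fixed_add hF hc, map_zero]) (fixed_add hF hc) hh x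
  have h1 := key 1 (one_pow q) one_ne_zero ![1, 0, 0]
  rw [map_one, one_mul, one_mul, herm_x0 hF, one_smul] at h1
  have hσ : ∀ c : F, c ^ q = c → σ c = c := by
    intro c hc
    rcases eq_or_ne c 0 with rfl | hc0
    · exact map_zero σ
    have h2 := key c hc hc0 ![1, 0, 0]
    rw [herm_x0 hF, mul_one, mul_smul, h1] at h2
    have := congrFun h2 0
    simpa [isoVec] using this
  have hs := field_sq_eq_one hF hσ
  have hsq : (conj g * fieldAut σ : AUT) ^ 2 ∈ (conj : GUType 3 F q →* AUT).range := by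
    refine ⟨g * guField σ g, ?_⟩
    rw [pow_two, map_mul, mul_assoc (conj g) (fieldAut σ), ← mul_assoc (fieldAut σ),
      fieldAut_mul_conj, mul_assoc (conj (guField σ g)), ← map_mul fieldAut, hs, map_one, mul_one]
  obtain ⟨j, rfl⟩ := hd
  have := mul_mem (inv_mem (pow_mem hsq j)) hpow
  rwa [← pow_mul, pow_succ, inv_mul_cancel_left] at this

end Cfsg.Agent.Lib.UThreeTwoRecog26
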