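import Mathlib

/-!
One class of involutions with centraliser like that of `PGU₃(q)`, `q` even: the Sylow 2-subgroups
form a trivial intersection class and every coset of a Sylow normaliser outside it holds exactly
`q - 1` involutions.
-/

set_option autoImplicit false
set_option linter.unusedSectionVars false
set_option linter.style.haveILetI false

namespace Cfsg.Agent.Lib.UThreeTwoRecog26

universe u

/-- What is used of the centraliser of an involution of `PGU₃(q)`. -/
structure CentData {G : Type u} [Group G] (q : ℕ) (x : G) (P : Subgroup G) : Prop where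
  le : P ≤ Subgroup.centralizer {x}
  card_P : Nat.card P = q ^ 3
  card_C : Nat.card (Subgroup.centralizer {x}) = q ^ 3 * (q + 1)
  normal : ∀ g ∈ Subgroup.centralizer {x}, ∀ p ∈ P, g * p * g⁻¹ ∈ P
  comm : ∀ a ∈ Subgroup.centralizer {x}, ∀ b ∈ Subgroup.centralizer {x}, a * b * a⁻¹ * b⁻¹ ∈ P
  central : ∀ z ∈ Subgroup.centralizer {x}, orderOf z = 2 →
    ∀ a ∈ Subgroup.centralizer {x}, Commute z a
  count : Nat.card {z : G // z ∈ Subgroup.centralizer {x} ∧ orderOf z = 2} = q - 1
  self_cent : ∀ a ∈ Subgroup.centralizer {x}, (∀ p ∈ P, Commute a p) → a ∈ P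

/-- The hypothesis on the group. -/
structure Hyp (G : Type u) [Group G] (q n : ℕ) : Prop where
  two_lt : 2 < q
  pow : q = 2 ^ n
  one_class : ∀ s t : G, orderOf s = 2 → orderOf t = 2 → IsConj s t
  cent : ∀ x : G, orderOf x = 2 → ∃ P, CentData q x P
  exists_inv : ∃ x : G, orderOf x = 2
  not_normal : ∀ P : Sylow 2 G, ¬ (P : Subgroup G).Normal

variable {G : Type u} [Group G]

theorem inv_iff {z : G} : orderOf z = 2 ↔ z ≠ 1 ∧ z * z = 1 := by
  rw [orderOf_eq_iff (by norm_num : 0 < 2)]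
  constructor
  · rintro ⟨h2, hm⟩
    exact ⟨fun e => hm 1 (by norm_num) (by norm_num) (by simp [e]), by rwa [← pow_two]⟩
  · rintro ⟨h1, h2⟩
    refine ⟨by rwa [pow_two], fun m hm hm0 => ?_⟩
    have : m = 1 := by omega
    simpa [this] using h1

theorem inv_eq_self {z : G} (hz : orderOf z = 2) : z⁻¹ = z :=
  inv_eq_of_mul_eq_one_right (inv_iff.1 hz).2

theorem mul_self_inv {z : G} (hz : orderOf z = 2) : z * z = 1 := (inv_iff.1 hz).2

theorem orderOf_conj (g z : G) : orderOf (g * z * g⁻¹) = orderOf z :=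
  orderOf_injective (MulAut.conj g).toMonoidHom (MulAut.conj g).injective z

theorem conj_mem_centralizer {g z a : G} (ha : a ∈ Subgroup.centralizer {z}) :
    g * a * g⁻¹ ∈ Subgroup.centralizer {g * z * g⁻¹} := by
  rw [Subgroup.mem_centralizer_singleton_iff] at ha ⊢
  calc g * a * g⁻¹ * (g * z * g⁻¹) = g * (a * z) * g⁻¹ := by group
    _ = g * (z * a) * g⁻¹ := by rw [ha]
    _ = g * z * g⁻¹ * (g * a * g⁻¹) := by group

theorem mem_conj_iff {g z a : G} :
    a ∈ Subgroup.centralizer {g * z * g⁻¹} ↔ g⁻¹ * a * g ∈ Subgroup.centralizer {z} := by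
  constructor
  · intro h
    have h' := conj_mem_centralizer (g := g⁻¹) h
    have e : g⁻¹ * (g * z * g⁻¹) * g⁻¹⁻¹ = z := by group
    rw [e, inv_inv] at h'
    exact h'
  · intro h
    have h' := conj_mem_centralizer (g := g) h
    have e : g * (g⁻¹ * a * g) * g⁻¹ = a := by group
    rwa [e] at h'

theorem commute_of_commute_sq {a b : G} (ha : Odd (orderOf a)) (h : Commute (a * a) b) :
    Commute a b := by
  obtain ⟨k, hk⟩ := ha
  have e : a = (a * a) ^ (k + 1) := by
    rw [← pow_two, ← pow_mul, show 2 * (k + 1) = orderOf a + 1 by omega, pow_succ,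
      pow_orderOf_eq_one, one_mul]
  rw [e]; exact h.pow_left _

theorem eq_one_of_pows {a : G} {i j : ℕ} (h : i.Coprime j) (hi : a ^ i = 1) (hj : a ^ j = 1) :
    a = 1 := by
  have := pow_gcd_eq_one.2 ⟨hi, hj⟩
  rwa [h.gcd_eq_one, pow_one] at this

theorem eq_one_of_odd_self {a : G} (ha : Odd (orderOf a)) (h : a * a = 1) : a = 1 := by
  obtain ⟨k, hk⟩ := ha
  have := pow_orderOf_eq_one a
  rwa [hk, pow_succ, pow_mul, pow_two, h, one_pow, one_mul] at this

theorem conj_conj_inv {t a : G} (ht : orderOf t = 2) : t * (t * a * t) * t = a := by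
  have h := mul_self_inv ht
  calc t * (t * a * t) * t = (t * t) * a * (t * t) := by group
    _ = a := by rw [h, one_mul, mul_one]

theorem conj_mul_inv {t a b : G} (ht : orderOf t = 2) :
    t * (a * b) * t = (t * a * t) * (t * b * t) := by
  have h := mul_self_inv ht
  calc t * (a * b) * t = t * a * (t * t) * b * t := by rw [h]; group
    _ = (t * a * t) * (t * b * t) := by group

theorem inverted_pow {t a : G} (ht : orderOf t = 2) (h : t * a * t = a⁻¹) (k : ℕ) :
    t * a ^ k * t = (a ^ k)⁻¹ := by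
  induction k with
  | zero => simpa using mul_self_inv ht
  | succ k ih =>
    rw [pow_succ, conj_mul_inv ht, ih, h, ← mul_inv_rev, mul_inv_rev,
      (Commute.pow_self a k).inv_inv.eq, ← mul_inv_rev, ← pow_succ, pow_succ']

theorem mem_normalizer_of_conj [Finite G] {H : Subgroup G} {g : G}
    (h : ∀ a ∈ H, g * a * g⁻¹ ∈ H) : g ∈ Subgroup.normalizer (H : Set G) := by
  have e : H.map (MulAut.conj g).toMonoidHom = H := by
    refine Subgroup.eq_of_le_of_card_ge ?_ (ge_of_eq ?_)
    · rintro _ ⟨a, ha, rfl⟩; exact h a ha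
    · exact Nat.card_congr (Subgroup.equivMapOfInjective H _ (MulAut.conj g).injective).toEquiv.symm
  refine Subgroup.mem_normalizer_iff.2 fun a => ⟨h a, fun ha => ?_⟩
  rw [← e] at ha
  obtain ⟨b, hb, hab⟩ := ha
  exact (MulAut.conj g).injective hab ▸ hb

namespace Hyp

variable {q n : ℕ} (h : Hyp G q n)
include h

theorem n_two_le : 2 ≤ n := by
  rcases n with _ | _ | n
  · have := h.pow; have := h.two_lt; simp_all
  · have := h.pow; have := h.two_lt; simp_all
  · omega

theorem even_q : Even q := by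
  rw [h.pow]; exact Nat.even_pow.2 ⟨even_two, by have := h.n_two_le; omega⟩

theorem coprime_pm : (q - 1).Coprime (q + 1) := by
  have hq := h.two_lt
  have hod : Odd (q - 1) := by
    rcases h.even_q with ⟨k, hk⟩
    exact ⟨k - 1, by omega⟩
  have e : q + 1 = 2 + (q - 1) := by omega
  rw [e, Nat.coprime_add_self_right, Nat.coprime_comm, Nat.coprime_two_left]
  exact hod

theorem coprime_sub_q : (q - 1).Coprime q := by
  have hq := h.two_lt
  rw [Nat.coprime_comm]
  conv_lhs => rw [show q = 1 + (q - 1) by omega]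
  simp

theorem coprime_C : (q - 1).Coprime (q ^ 3 * (q + 1)) :=
  Nat.Coprime.mul_right (h.coprime_sub_q.pow_right 3) h.coprime_pm

theorem coprime_P : (q + 1).Coprime (q ^ 3) := by
  refine Nat.Coprime.pow_right 3 ?_
  rw [Nat.coprime_comm]; simp

theorem odd_sub : Odd (q - 1) := by
  have := h.two_lt
  rcases h.even_q with ⟨k, hk⟩
  exact ⟨k - 1, by omega⟩

theorem P_isPGroup {x : G} {P : Subgroup G} (hP : CentData q x P) : IsPGroup 2 P :=
  IsPGroup.of_card (n := n * 3) (by rw [hP.card_P, h.pow, ← pow_mul])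

variable [Finite G]

/-- A 2-element of the centraliser lies in the normal Sylow subgroup. -/
theorem mem_P {x : G} {P : Subgroup G} (hP : CentData q x P) {a : G}
    (ha : a ∈ Subgroup.centralizer {x}) (ha2 : ∃ k, a ^ 2 ^ k = 1) : a ∈ P := by
  set C : Subgroup G := Subgroup.centralizer {x} with hC
  haveI : (P.subgroupOf C).Normal :=
    ⟨fun p hp g => Subgroup.mem_subgroupOf.2 (hP.normal g g.2 p (Subgroup.mem_subgroupOf.1 hp))⟩
  have hc : Nat.card (P.subgroupOf C) = q ^ 3 := by
    rw [Nat.card_congr (Subgroup.subgroupOfEquivOfLe hP.le).toEquiv, hP.card_P]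
  have hi : Nat.card (C ⧸ P.subgroupOf C) = q + 1 := by
    have e := Subgroup.card_eq_card_quotient_mul_card_subgroup (P.subgroupOf C)
    rw [hP.card_C, hc, mul_comm (q ^ 3)] at e
    exact (Nat.eq_of_mul_eq_mul_right (by have := h.two_lt; positivity) e).symm
  obtain ⟨k, hk⟩ := ha2
  have h1 : ((⟨a, ha⟩ : C) : C ⧸ P.subgroupOf C) ^ (q + 1) = 1 := by
    rw [← hi]; exact pow_card_eq_one'
  have h2 : ((⟨a, ha⟩ : C) : C ⧸ P.subgroupOf C) ^ 2 ^ k = 1 := by
    rw [← QuotientGroup.mk_pow]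
    have : (⟨a, ha⟩ : C) ^ 2 ^ k = 1 := Subtype.ext (by simpa using hk)
    rw [this]; rfl
  have hcop : (q + 1).Coprime (2 ^ k) := by
    refine Nat.Coprime.pow_right _ ?_
    rw [Nat.coprime_two_right]; exact h.even_q.add_one
  have := eq_one_of_pows hcop h1 h2
  exact Subgroup.mem_subgroupOf.1 ((QuotientGroup.eq_one_iff _).1 this)

theorem mem_P_of_orderOf {x : G} {P : Subgroup G} (hP : CentData q x P) {z : G}
    (hz : z ∈ Subgroup.centralizer {x}) (hz2 : orderOf z = 2) : z ∈ P :=
  h.mem_P hP hz ⟨1, by simpa [pow_two] using mul_self_inv hz2⟩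

theorem x_mem {x : G} (hx : orderOf x = 2) {P : Subgroup G} (hP : CentData q x P) : x ∈ P :=
  h.mem_P_of_orderOf hP (Subgroup.mem_centralizer_singleton_iff.2 rfl) hx

/-- Two involutions of a common 2-subgroup have the same centraliser. -/
theorem centralizer_eq_of_mem {R : Subgroup G} (hR : IsPGroup 2 R) {z w : G} (hzR : z ∈ R)
    (hwR : w ∈ R) (hz : orderOf z = 2) (hw : orderOf w = 2) :
    Subgroup.centralizer {z} = Subgroup.centralizer ({w} : Set G) := by
  have key : ∀ x : G, orderOf x = 2 → ∀ a ∈ Subgroup.centralizer ({x} : Set G), orderOf a = 2 →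
      Subgroup.centralizer {x} = Subgroup.centralizer ({a} : Set G) := by
    intro x hx a ha ha2
    obtain ⟨P, hP⟩ := h.cent x hx
    obtain ⟨P', hP'⟩ := h.cent a ha2
    refine Subgroup.eq_of_le_of_card_ge (fun b hb => ?_) (by rw [hP.card_C, hP'.card_C])
    exact Subgroup.mem_centralizer_singleton_iff.2 (hP.central a ha ha2 b hb).symm.eq
  haveI : Nontrivial R := ⟨⟨z, hzR⟩, 1, fun e =>
    (inv_iff.1 hz).1 (by simpa using congrArg Subtype.val e)⟩
  haveI : Fact (Nat.Prime 2) := ⟨Nat.prime_two⟩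
  haveI := hR.center_nontrivial
  obtain ⟨c, hc⟩ := exists_prime_orderOf_dvd_card' (G := Subgroup.center R) 2 (by
    obtain ⟨k, hk0, hk⟩ := (hR.to_subgroup (Subgroup.center R)).nontrivial_iff_card.1
      inferInstance
    rw [hk]; exact dvd_pow_self 2 hk0.ne')
  have hc2 : orderOf ((c : R) : G) = 2 := by rw [Subgroup.orderOf_coe, Subgroup.orderOf_coe, hc]
  have hcm : ∀ a ∈ R, a ∈ Subgroup.centralizer ({((c : R) : G)} : Set G) := fun a ha =>
    Subgroup.mem_centralizer_singleton_iff.2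
      (congrArg Subtype.val (Subgroup.mem_center_iff.1 c.2 ⟨a, ha⟩))
  rw [← key _ hc2 z (hcm z hzR) hz, ← key _ hc2 w (hcm w hwR) hw]

/-- An element of odd order inverted by an involution centralises no involution. -/
theorem inverted_eq_one {u d z : G} (hu : orderOf u = 2) (hud : u * d * u = d⁻¹)
    (hd : Odd (orderOf d)) (hz : orderOf z = 2) (hzd : Commute z d) : d = 1 := by
  set N : Subgroup G := Subgroup.normalizer (Subgroup.zpowers d : Set G) with hN
  haveI : Fact (Nat.Prime 2) := ⟨Nat.prime_two⟩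
  have huN : u ∈ N := by
    refine mem_normalizer_of_conj ?_
    intro a ha
    obtain ⟨k, rfl⟩ := ha
    have e : u * d ^ k * u⁻¹ = (u * d * u⁻¹) ^ k := (map_zpow (MulAut.conj u).toMonoidHom d k)
    show u * d ^ k * u⁻¹ ∈ Subgroup.zpowers d
    rw [e, inv_eq_self hu, hud]
    exact zpow_mem (inv_mem (Subgroup.mem_zpowers d)) k
  have hzN : z ∈ N := by
    refine mem_normalizer_of_conj ?_
    intro a ha
    obtain ⟨k, rfl⟩ := ha
    show z * d ^ k * z⁻¹ ∈ Subgroup.zpowers d
    rw [(hzd.zpow_right k).eq, mul_inv_cancel_right]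
    exact zpow_mem (Subgroup.mem_zpowers d) k
  have hp : ∀ a : N, orderOf (a : G) = 2 → IsPGroup 2 (Subgroup.zpowers a) := fun a ha =>
    IsPGroup.of_card (n := 1) (by rw [Nat.card_zpowers, ← Subgroup.orderOf_coe, ha, pow_one])
  obtain ⟨R₁, hR₁⟩ := (hp ⟨u, huN⟩ hu).exists_le_sylow
  obtain ⟨R₂, hR₂⟩ := (hp ⟨z, hzN⟩ hz).exists_le_sylow
  obtain ⟨g, hg⟩ := MulAction.exists_smul_eq N R₂ R₁
  have hgz : g * ⟨z, hzN⟩ * g⁻¹ ∈ (R₁ : Subgroup N) := by
    rw [← hg]
    exact Subgroup.smul_mem_pointwise_smul _ _ _ (hR₂ (Subgroup.mem_zpowers _))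
  set z' : G := (g : G) * z * (g : G)⁻¹ with hz'
  have hz'2 : orderOf z' = 2 := by rw [hz', orderOf_conj, hz]
  have hz'd : Commute z' d := by
    have hgd : (g : G)⁻¹ * d * g ∈ Subgroup.zpowers d := by
      have := (Subgroup.mem_normalizer_iff.1 g⁻¹.2 d).1 (Subgroup.mem_zpowers d)
      simpa [InvMemClass.coe_inv] using this
    obtain ⟨k, hk⟩ := hgd
    have hk' : d = (g : G) * d ^ k * (g : G)⁻¹ := by
      simp only at hk
      rw [hk]; group
    have hc : Commute ((g : G) * z * (g : G)⁻¹) ((g : G) * d ^ k * (g : G)⁻¹) :=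
      (hzd.zpow_right k).map (MulAut.conj (g : G)).toMonoidHom
    rwa [← hk', ← hz'] at hc
  have hR : IsPGroup 2 ((R₁ : Subgroup N).map N.subtype) := R₁.isPGroup'.map _
  have e := h.centralizer_eq_of_mem hR (z := u) (w := z')
    ⟨⟨u, huN⟩, hR₁ (Subgroup.mem_zpowers _), rfl⟩ ⟨_, hgz, rfl⟩ hu hz'2
  have hdu : d ∈ Subgroup.centralizer ({u} : Set G) := by
    rw [e]; exact Subgroup.mem_centralizer_singleton_iff.2 hz'd.symm.eq
  rw [Subgroup.mem_centralizer_singleton_iff] at hdu
  refine eq_one_of_odd_self hd ?_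
  have : u * d * u = d := by rw [← hdu, mul_assoc, mul_self_inv hu, mul_one]
  rw [this] at hud
  calc d * d = d⁻¹ * d := by rw [← hud]
    _ = 1 := inv_mul_cancel d

end Hyp

end Cfsg.Agent.Lib.UThreeTwoRecog26
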