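import Cfsg.Agent.Lib.UThreeTwoRecog26.Normalizer

/-!
Every coset of `M` outside `M` holds exactly `q - 1` involutions, and the elements of `M` inverted
by one of them form an abelian complement of `C` in `M`.
-/

set_option autoImplicit false
set_option linter.unusedSectionVars false
set_option linter.style.haveILetI false

namespace Cfsg.Agent.Lib.UThreeTwoRecog26

universe u

namespace Base

variable {G : Type u} [Group G] [Finite G] {q n : ℕ} (B : Base G q n)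

/-- An involution outside `M`. -/
structure Out (u : G) : Prop where
  order : orderOf u = 2
  not_mem : u ∉ B.M

/-- `M ∩ uMu`. -/
def D (u : G) : Subgroup G := B.M ⊓ B.M.comap (MulAut.conj u).toMonoidHom

/-- The elements of `M` inverted by `u`. -/
def J (u : G) : Set G := {d | d ∈ B.M ∧ u * d * u = d⁻¹}

variable {B} {u : G}

theorem mem_D (hu : B.Out u) {g : G} : g ∈ B.D u ↔ g ∈ B.M ∧ u * g * u ∈ B.M := by
  show g ∈ B.M ∧ u * g * u⁻¹ ∈ B.M ↔ _
  rw [inv_eq_self hu.order]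

theorem J_mem_D (hu : B.Out u) {d : G} (hd : d ∈ B.J u) : d ∈ B.D u :=
  (mem_D hu).2 ⟨hd.1, by rw [hd.2]; exact inv_mem hd.1⟩

theorem conj_mem_D (hu : B.Out u) {g : G} (hg : g ∈ B.D u) : u * g * u ∈ B.D u := by
  obtain ⟨h1, h2⟩ := (mem_D hu).1 hg
  exact (mem_D hu).2 ⟨h2, by rwa [conj_conj_inv hu.order]⟩

theorem odd_of_mem_D (hu : B.Out u) {g : G} (hg : g ∈ B.D u) : Odd (orderOf g) := by
  by_contra hev
  rw [Nat.not_odd_iff_even] at hev
  have hz : orderOf (g ^ (orderOf g / 2)) = 2 :=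
    orderOf_pow_orderOf_div (orderOf_pos g).ne' (even_iff_two_dvd.1 hev)
  set z := g ^ (orderOf g / 2)
  obtain ⟨h1, h2⟩ := (mem_D hu).1 (pow_mem hg (orderOf g / 2) : z ∈ B.D u)
  refine hu.not_mem (B.mem_M_of_inter hz (B.inv_mem_P_of_mem_M hz h1) ?_)
  rw [inv_eq_self hu.order]
  refine B.inv_mem_P_of_mem_M ?_ h2
  have e : u * z * u = u * z * u⁻¹ := by rw [inv_eq_self hu.order]
  rw [e, orderOf_conj, hz]

theorem pow_q_add_one {g : G} (hg : g ∈ B.C) (ho : Odd (orderOf g)) : g ^ (q + 1) = 1 := by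
  have hd : orderOf g ∣ q ^ 3 * (q + 1) := by
    rw [← B.hP.card_C]
    have := orderOf_dvd_natCard (⟨g, hg⟩ : B.C)
    rwa [← Subgroup.orderOf_coe] at this
  have hc : (orderOf g).Coprime (q ^ 3) := by
    rw [B.pow, ← pow_mul]
    refine Nat.Coprime.pow_right _ ?_
    exact Nat.coprime_two_right.2 ho
  exact orderOf_dvd_iff_pow_eq_one.1 (hc.dvd_of_dvd_mul_left hd)

theorem index_C_subgroupOf : (B.C.subgroupOf B.M).index = q - 1 := by
  have h := (B.C.subgroupOf B.M).index_mul_card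
  rw [Nat.card_congr (Subgroup.subgroupOfEquivOfLe B.C_le_M).toEquiv, B.hP.card_C, B.card_M] at h
  exact Nat.eq_of_mul_eq_mul_right
    (Nat.mul_pos (pow_pos (by have := B.two_lt; omega : 0 < q) 3) (Nat.succ_pos q)) h

theorem C_normal : (B.C.subgroupOf B.M).Normal :=
  ⟨fun _ hp g => Subgroup.mem_subgroupOf.2 (B.conj_C_mem g.2 (Subgroup.mem_subgroupOf.1 hp))⟩

theorem pow_sub_one_mem {g : G} (hg : g ∈ B.M) : g ^ (q - 1) ∈ B.C := by
  haveI := C_normal (B := B)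
  have h : ((⟨g, hg⟩ : B.M) : B.M ⧸ B.C.subgroupOf B.M) ^ (q - 1) = 1 := by
    rw [← index_C_subgroupOf (B := B)]; exact pow_card_eq_one'
  rw [← QuotientGroup.mk_pow, QuotientGroup.eq_one_iff] at h
  exact Subgroup.mem_subgroupOf.1 h

theorem mem_C_of_pow {g : G} (hg : g ∈ B.M) (hp : g ^ (q + 1) = 1) : g ∈ B.C := by
  haveI := C_normal (B := B)
  have h : ((⟨g, hg⟩ : B.M) : B.M ⧸ B.C.subgroupOf B.M) ^ (q - 1) = 1 := by
    rw [← index_C_subgroupOf (B := B)]; exact pow_card_eq_one'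
  have h' : ((⟨g, hg⟩ : B.M) : B.M ⧸ B.C.subgroupOf B.M) ^ (q + 1) = 1 := by
    rw [← QuotientGroup.mk_pow, show (⟨g, hg⟩ : B.M) ^ (q + 1) = 1 from Subtype.ext (by simpa using hp)]
    rfl
  exact Subgroup.mem_subgroupOf.1
    ((QuotientGroup.eq_one_iff _).1 (eq_one_of_pows B.toHyp.coprime_pm h h'))

/-- An inverted element of `C` is trivial. -/
theorem J_C_eq_one (hu : B.Out u) {d : G} (hd : d ∈ B.J u) (hC : d ∈ B.C) : d = 1 := by
  refine B.toHyp.inverted_eq_one hu.order hd.2 (odd_of_mem_D hu (J_mem_D hu hd)) B.hx ?_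
  exact (Subgroup.mem_centralizer_singleton_iff.1 hC).symm

theorem conj_eq_of_mem (hu : B.Out u) {e : G} (he : e ∈ B.D u) (heC : e ∈ B.C) :
    u * e * u = e := by
  have he' := conj_mem_D hu he
  have hp : (u * e * u) ^ (q + 1) = 1 := by
    have h1 : (u * e * u⁻¹) ^ (q + 1) = 1 := by
      rw [conj_pow, pow_q_add_one heC (odd_of_mem_D hu he), mul_one, mul_inv_cancel]
    rwa [inv_eq_self hu.order] at h1
  have hC' : u * e * u ∈ B.C := mem_C_of_pow ((mem_D hu).1 he').1 hp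
  have hf : e⁻¹ * (u * e * u) ∈ B.J u := by
    refine ⟨B.C_le_M (mul_mem (inv_mem heC) hC'), ?_⟩
    rw [conj_mul_inv hu.order, conj_conj_inv hu.order, mul_inv_rev, inv_inv]
    congr 1
    have h : u * e⁻¹ * u * (u * e * u) = 1 := by
      rw [← conj_mul_inv hu.order, inv_mul_cancel, mul_one, mul_self_inv hu.order]
    exact eq_inv_of_mul_eq_one_left h
  have := J_C_eq_one hu hf (mul_mem (inv_mem heC) hC')
  exact (inv_mul_eq_one.1 this).symm

theorem commute_J (hu : B.Out u) {d e : G} (hd : d ∈ B.J u) (he : e ∈ B.D u) (heC : e ∈ B.C) :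
    Commute d e := by
  have hd' := J_mem_D hu hd
  have hf : d * e * d⁻¹ ∈ B.D u := mul_mem (mul_mem hd' he) (inv_mem hd')
  have h := conj_eq_of_mem hu hf (B.conj_C_mem hd.1 heC)
  have hdi : u * d⁻¹ * u = d := by
    conv_lhs => rw [← hd.2]
    exact conj_conj_inv hu.order
  rw [conj_mul_inv hu.order, conj_mul_inv hu.order, hd.2, conj_eq_of_mem hu he heC, hdi] at h
  refine commute_of_commute_sq (odd_of_mem_D hu hd') ?_
  show d * d * e = e * (d * d)
  calc d * d * e = d * (d * e * d⁻¹) * d := by group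
    _ = d * (d⁻¹ * e * d) * d := by rw [h]
    _ = e * (d * d) := by group

/-- The map to `M / C` is injective on inverted elements. -/
theorem J_inj (hu : B.Out u) {d₁ d₂ : G} (h₁ : d₁ ∈ B.J u) (h₂ : d₂ ∈ B.J u)
    (h : d₁⁻¹ * d₂ ∈ B.C) : d₁ = d₂ := by
  set e := d₁⁻¹ * d₂ with he
  have heD : e ∈ B.D u := mul_mem (inv_mem (J_mem_D hu h₁)) (J_mem_D hu h₂)
  have hc := commute_J hu h₁ heD h
  have h2 : d₂ = d₁ * e := by rw [he]; group
  have hj : u * (d₁ * e) * u = (d₁ * e)⁻¹ := by rw [← h2]; exact h₂.2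
  rw [conj_mul_inv hu.order, h₁.2, conj_eq_of_mem hu heD h, ← hc.inv_inv.eq.trans (mul_inv_rev _ _).symm]
    at hj
  have he1 : e = 1 := eq_one_of_odd_self (odd_of_mem_D hu heD) (by
    have := mul_left_cancel hj
    calc e * e = e * e⁻¹ := by rw [← this]
      _ = 1 := mul_inv_cancel e)
  rw [h2, he1, mul_one]

/-- The map to `M / C`. -/
def toQuot (u : G) (d : B.J u) : B.M ⧸ B.C.subgroupOf B.M := (⟨d.1, d.2.1⟩ : B.M)

theorem toQuot_injective (hu : B.Out u) : Function.Injective (toQuot (B := B) u) := by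
  intro a b e
  exact Subtype.ext (J_inj hu a.2 b.2 (Subgroup.mem_subgroupOf.1 (QuotientGroup.eq.1 e)))

theorem card_quot : Nat.card (B.M ⧸ B.C.subgroupOf B.M) = q - 1 := index_C_subgroupOf

theorem card_J_le (hu : B.Out u) : Nat.card (B.J u) ≤ q - 1 := by
  rw [← card_quot (B := B)]
  exact Nat.card_le_card_of_injective _ (toQuot_injective hu)

/-- The involutions of a coset. -/
abbrev CosetInv (B : Base G q n) (b : G ⧸ B.M) : Type u :=
  {z : G // orderOf z = 2 ∧ (z : G ⧸ B.M) = b}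

theorem card_cosetInv_le_J (hu : B.Out u) :
    Nat.card (B.CosetInv (u : G ⧸ B.M)) ≤ Nat.card (B.J u) := by
  refine Nat.card_le_card_of_injective (fun v => (⟨u * v.1, ?_⟩ : B.J u)) ?_
  · refine ⟨?_, ?_⟩
    · have := QuotientGroup.eq.1 v.2.2.symm
      rwa [inv_eq_self hu.order] at this
    · rw [mul_inv_rev, inv_eq_self hu.order, inv_eq_self v.2.1, ← mul_assoc u u,
        mul_self_inv hu.order, one_mul]
  · intro v w e
    exact Subtype.ext (mul_left_cancel (congrArg Subtype.val e))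

theorem base_coset_count : Nat.card (B.CosetInv ((1 : G) : G ⧸ B.M)) = q - 1 := by
  rw [← B.card_inv_M]
  refine Nat.card_congr (Equiv.subtypeEquivRight fun z => ?_)
  rw [eq_comm (a := (z : G ⧸ B.M)), QuotientGroup.eq, inv_one, one_mul]

theorem card_cosetInv (b : G ⧸ B.M) : Nat.card (B.CosetInv b) = q - 1 := by
  classical
  have hle : ∀ c : G ⧸ B.M, Nat.card (B.CosetInv c) ≤ q - 1 := by
    intro c
    rcases eq_or_ne c ((1 : G) : G ⧸ B.M) with rfl | hc
    · exact base_coset_count.le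
    · rcases isEmpty_or_nonempty (B.CosetInv c) with he | ⟨⟨v, hv, hvc⟩⟩
      · simp
      · subst hvc
        have hout : B.Out v := ⟨hv, fun hM => hc (QuotientGroup.eq.2 (by simpa using hM))⟩
        exact (card_cosetInv_le_J hout).trans (card_J_le hout)
  letI := Fintype.ofFinite (G ⧸ B.M)
  have htot : ∑ c : G ⧸ B.M, Nat.card (B.CosetInv c) = ∑ _c : G ⧸ B.M, (q - 1) := by
    rw [Finset.sum_const, Finset.card_univ, ← Nat.card_eq_fintype_card, smul_eq_mul,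
      ← Subgroup.index, ← B.card_involutions, ← Nat.card_sigma]
    exact Nat.card_congr
      { toFun := fun z => ⟨z.2.1, z.2.2.1⟩
        invFun := fun z => ⟨(z.1 : G ⧸ B.M), ⟨z.1, z.2, rfl⟩⟩
        left_inv := fun ⟨c, z, h1, h2⟩ => by subst h2; rfl
        right_inv := fun _ => rfl }
  by_contra hne
  exact absurd htot (Finset.sum_lt_sum (fun c _ => hle c)
    ⟨b, Finset.mem_univ b, lt_of_le_of_ne (hle b) hne⟩).ne

theorem exists_out_of_not_mem {g : G} (hg : g ∉ B.M) :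
    ∃ v : G, B.Out v ∧ (v : G ⧸ B.M) = (g : G ⧸ B.M) := by
  have h : 0 < Nat.card (B.CosetInv (g : G ⧸ B.M)) := by
    rw [card_cosetInv]; have := B.two_lt; omega
  obtain ⟨⟨⟨v, hv, e⟩⟩⟩ := Nat.card_pos_iff.1 h
  refine ⟨v, ⟨hv, fun hM => hg ?_⟩, e⟩
  have := mul_mem hM (QuotientGroup.eq.1 e)
  rwa [mul_inv_cancel_left] at this

theorem card_J (hu : B.Out u) : Nat.card (B.J u) = q - 1 :=
  le_antisymm (card_J_le hu) ((card_cosetInv (B := B) _).ge.trans (card_cosetInv_le_J hu))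

theorem exists_J (hu : B.Out u) {g : G} (hg : g ∈ B.M) : ∃ d ∈ B.J u, d⁻¹ * g ∈ B.C := by
  have hb : Function.Bijective (toQuot (B := B) u) :=
    (Nat.bijective_iff_injective_and_card _).2 ⟨toQuot_injective hu, by rw [card_J hu, card_quot]⟩
  obtain ⟨d, hd⟩ := hb.2 ((⟨g, hg⟩ : B.M) : B.M ⧸ B.C.subgroupOf B.M)
  exact ⟨d.1, d.2, Subgroup.mem_subgroupOf.1 (QuotientGroup.eq.1 hd)⟩

theorem J_pow (hu : B.Out u) {d : G} (hd : d ∈ B.J u) : d ^ (q - 1) = 1 :=
  J_C_eq_one hu ⟨pow_mem hd.1 _, inverted_pow hu.order hd.2 _⟩ (pow_sub_one_mem hd.1)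

theorem quot_comm {u₀ : G} (hu : B.Out u₀) {a b : G} (ha : a ∈ B.M) (hb : b ∈ B.M) :
    a * b * a⁻¹ * b⁻¹ ∈ B.C := by
  haveI := C_normal (B := B)
  have key : ∀ d₁ ∈ B.J u₀, ∀ d₂ ∈ B.J u₀, d₁ * d₂ * d₁⁻¹ * d₂⁻¹ ∈ B.C := by
    intro d₁ h₁ d₂ h₂
    have hD : d₁ * d₂ ∈ B.D u₀ := mul_mem (J_mem_D hu h₁) (J_mem_D hu h₂)
    obtain ⟨d₃, h₃, hC⟩ := exists_J hu ((mem_D hu).1 hD).1
    set e := d₃⁻¹ * (d₁ * d₂) with he
    have heD : e ∈ B.D u₀ := mul_mem (inv_mem (J_mem_D hu h₃)) hD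
    have hde : d₁ * d₂ = d₃ * e := by rw [he]; group
    have hk := congrArg (fun a => u₀ * a * u₀) hde
    simp only [conj_mul_inv hu.order, h₁.2, h₂.2, h₃.2, conj_eq_of_mem hu heD hC] at hk
    have : d₁ * d₂ * d₁⁻¹ * d₂⁻¹ = (d₃ * e * d₃⁻¹) * e := by
      calc d₁ * d₂ * d₁⁻¹ * d₂⁻¹ = d₁ * d₂ * (d₁⁻¹ * d₂⁻¹) := by group
        _ = _ := by rw [hk, hde]; group
    rw [this]
    exact mul_mem (B.conj_C_mem h₃.1 hC) hC
  obtain ⟨d₁, h₁, c₁⟩ := exists_J hu ha
  obtain ⟨d₂, h₂, c₂⟩ := exists_J hu hb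
  set A : B.M := ⟨a, ha⟩
  set A' : B.M := ⟨b, hb⟩
  set E₁ : B.M := ⟨d₁, h₁.1⟩
  set E₂ : B.M := ⟨d₂, h₂.1⟩
  have e₁ : (A : B.M ⧸ B.C.subgroupOf B.M) = E₁ :=
    (QuotientGroup.eq.2 (Subgroup.mem_subgroupOf.2 c₁)).symm
  have e₂ : (A' : B.M ⧸ B.C.subgroupOf B.M) = E₂ :=
    (QuotientGroup.eq.2 (Subgroup.mem_subgroupOf.2 c₂)).symm
  have hg : ((A * A' * A⁻¹ * A'⁻¹ : B.M) : B.M ⧸ B.C.subgroupOf B.M) = 1 := by
    simp only [QuotientGroup.mk_mul, QuotientGroup.mk_inv]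
    rw [e₁, e₂, ← QuotientGroup.mk_mul, ← QuotientGroup.mk_inv, ← QuotientGroup.mk_mul,
      ← QuotientGroup.mk_inv, ← QuotientGroup.mk_mul, QuotientGroup.eq_one_iff,
      Subgroup.mem_subgroupOf]
    exact key d₁ h₁ d₂ h₂
  exact Subgroup.mem_subgroupOf.1 ((QuotientGroup.eq_one_iff _).1 hg)

theorem J_commute (hu : B.Out u) {a b : G} (ha : a ∈ B.J u) (hb : b ∈ B.J u) : Commute a b := by
  set z := a * b * a⁻¹ * b⁻¹ with hz
  have hzD : z ∈ B.D u := mul_mem (mul_mem (mul_mem (J_mem_D hu ha) (J_mem_D hu hb))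
    (inv_mem (J_mem_D hu ha))) (inv_mem (J_mem_D hu hb))
  have hzC : z ∈ B.C := quot_comm hu ha.1 hb.1
  have hza : Commute a z := commute_J hu ha hzD hzC
  have hpow : ∀ k : ℕ, a ^ k * b * (a ^ k)⁻¹ = z ^ k * b := by
    intro k
    induction k with
    | zero => simp
    | succ k ih =>
      calc a ^ (k + 1) * b * (a ^ (k + 1))⁻¹ = a * (a ^ k * b * (a ^ k)⁻¹) * a⁻¹ := by
            rw [pow_succ']; group
        _ = a * (z ^ k * b) * a⁻¹ := by rw [ih]
        _ = z ^ k * (a * b * a⁻¹) := by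
            rw [← mul_assoc a (z ^ k), (hza.pow_right k).eq]; group
        _ = z ^ (k + 1) * b := by rw [pow_succ, hz]; group
  have h := hpow (q - 1)
  rw [J_pow hu ha, one_mul, inv_one, mul_one] at h
  have hz1 : z = 1 := eq_one_of_pows B.toHyp.coprime_pm (mul_eq_right.1 h.symm)
    (pow_q_add_one hzC (odd_of_mem_D hu hzD))
  rw [hz, mul_inv_eq_one, mul_inv_eq_iff_eq_mul] at hz1
  exact hz1

/-- The inverted elements, as a subgroup. -/
def K (hu : B.Out u) : Subgroup G where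
  carrier := B.J u
  one_mem' := ⟨one_mem _, by rw [mul_one, inv_one, mul_self_inv hu.order]⟩
  mul_mem' := fun {a b} ha hb => ⟨mul_mem ha.1 hb.1, by
    rw [conj_mul_inv hu.order, ha.2, hb.2, mul_inv_rev, (J_commute hu ha hb).inv_inv.eq]⟩
  inv_mem' := fun {a} ha => ⟨inv_mem ha.1, by
    rw [inv_inv]
    conv_lhs => rw [← ha.2]
    exact conj_conj_inv hu.order⟩

theorem card_K (hu : B.Out u) : Nat.card (K hu) = q - 1 := card_J hu

theorem mem_K_of_pow (hu : B.Out u) {g : G} (hg : g ∈ B.D u) (hp : g ^ (q - 1) = 1) :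
    g ∈ K hu := by
  obtain ⟨d, hd, hC⟩ := exists_J hu ((mem_D hu).1 hg).1
  set e := d⁻¹ * g with he
  have heD : e ∈ B.D u := mul_mem (inv_mem (J_mem_D hu hd)) hg
  have hge : g = d * e := by rw [he]; group
  rw [hge, (commute_J hu hd heD hC).mul_pow, J_pow hu hd, one_mul] at hp
  rw [hge, eq_one_of_pows B.toHyp.coprime_pm hp (pow_q_add_one hC (odd_of_mem_D hu heD)), mul_one]
  exact hd

end Base

end Cfsg.Agent.Lib.UThreeTwoRecog26
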