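import Cfsg.Agent.Lib.UThreeTwoRecog26.Stab

/-!
The centraliser of an involution of `PGU₃(q)`, `q` even.
-/

set_option autoImplicit false
set_option linter.unusedSectionVars false
set_option linter.style.haveILetI false

namespace Cfsg.Agent.Lib.UThreeTwoRecog26

open Matrix

universe u v

variable {F : Type v} [Field F] [Fintype F] [CharP F 2] {q : ℕ} (hF : Fintype.card F = q ^ 2)

include hF

theorem card_fixed : Nat.card {c : F // c + c ^ q = 0} = q := by
  refine (Nat.card_congr (Equiv.subtypeEquivRight fun c => ?_)).trans (MinDegree.card_skew hF)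
  ·
    show _ ↔ c + Forms.qPowHom hF c = 0
    rw [Forms.qPowHom_apply]

theorem exists_trace {c : F} (hc : c ^ q = c) : ∃ x : F, x + x ^ q = c := by
  let T : F →+ F := AddMonoidHom.id F + (Forms.qPowHom hF).toAddMonoidHom
  have hT : ∀ x, T x = x + x ^ q := fun x => by
    show x + Forms.qPowHom hF x = _
    rw [Forms.qPowHom_apply]
  have hk : Nat.card T.ker = q := MinDegree.card_skew hF
  have hle : T.range ≤ T.ker := by
    rintro _ ⟨x, rfl⟩
    rw [AddMonoidHom.mem_ker, hT, hT, qadd hF, Forms.pow_q_pow_q hF]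
    linear_combination CharTwo.add_self_eq_zero (x + x ^ q)
  have h := T.ker.index_mul_card
  rw [AddSubgroup.index_ker, hk, Nat.card_eq_fintype_card (α := F), hF, pow_two] at h
  have heq : T.range = T.ker := AddSubgroup.eq_of_le_of_card_ge hle
    (by rw [hk, Nat.eq_of_mul_eq_mul_right (Nat.pos_of_ne_zero (qne hF)) h])
  have : c ∈ T.ker := by rw [AddMonoidHom.mem_ker, hT, hc, CharTwo.add_self_eq_zero]
  rw [← heq] at this
  obtain ⟨x, hx⟩ := this
  exact ⟨x, by rw [← hT, hx]⟩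

theorem norm_fixed_q (b : F) : (b ^ (q + 1)) ^ q = b ^ (q + 1) := by
  rw [pow_succ, mul_pow, Forms.pow_q_pow_q hF, mul_comm]

theorem card_pairs : Nat.card {p : F × F // p.2 + p.2 ^ q = p.1 ^ (q + 1)} = q ^ 3 := by
  classical
  let e : {p : F × F // p.2 + p.2 ^ q = p.1 ^ (q + 1)} ≃
      (b : F) × {c : F // c + c ^ q = b ^ (q + 1)} :=
    { toFun := fun p => ⟨p.1.1, p.1.2, p.2⟩
      invFun := fun p => ⟨(p.1, p.2.1), p.2.2⟩
      left_inv := fun _ => rfl
      right_inv := fun _ => rfl }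
  have hfib : ∀ b : F, Nat.card {c : F // c + c ^ q = b ^ (q + 1)} = q := by
    intro b
    obtain ⟨x, hx⟩ := exists_trace hF (norm_fixed_q hF b)
    conv_rhs => rw [← card_fixed hF]
    refine Nat.card_congr (Equiv.subtypeEquiv (Equiv.addRight x) fun c => ?_)
    show _ ↔ (c + x) + (c + x) ^ q = 0
    rw [qadd hF]
    constructor
    · intro h
      linear_combination h + hx + CharTwo.add_self_eq_zero (b ^ (q + 1))
    · intro h
      linear_combination h - hx - CharTwo.add_self_eq_zero (b ^ (q + 1))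
  rw [Nat.card_congr e, Nat.card_sigma, Finset.sum_congr rfl fun b _ => hfib b, Finset.sum_const,
    Finset.card_univ, hF, smul_eq_mul]
  ring

theorem card_stab : Nat.card ↥(stab F q) = q ^ 3 * (q + 1) := by
  have e : q ^ 3 * (q + 1) = Nat.card ({p : F × F // p.2 + p.2 ^ q = p.1 ^ (q + 1)} ×
      {x : F // x ^ (q + 1) = 1}) := by
    rw [Nat.card_prod, card_pairs hF, Classical.natCard_normOne hF]
  rw [e]
  refine Nat.card_congr (Equiv.ofBijective
    (fun g => (⟨(bC g, cC g), (coords hF g).2.1⟩, ⟨muC g, (coords hF g).1⟩)) ⟨fun g k e => ?_, ?_⟩)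
  · simp only [Prod.mk.injEq, Subtype.mk.injEq] at e
    exact stab_ext hF e.2 e.1.1 e.1.2
  · rintro ⟨⟨⟨b, c⟩, hc⟩, ⟨μ, hμ⟩⟩
    obtain ⟨g, h1, h2, h3⟩ := exists_stab hF hμ hc
    exact ⟨g, by simp [h1, h2, h3]⟩

/-- The Sylow 2-subgroup of the stabiliser. -/
def unip : Subgroup ↥(stab F q) := (muHom hF).ker

theorem mem_unip {g : ↥(stab F q)} : g ∈ unip hF ↔ muC g = 1 := Iff.rfl

theorem card_unip : Nat.card (unip hF) = q ^ 3 := by
  rw [← card_pairs hF]
  refine Nat.card_congr (Equiv.ofBijective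
    (fun g => ⟨(bC g.1, cC g.1), (coords hF g.1).2.1⟩) ⟨fun g k e => ?_, ?_⟩)
  · simp only [Prod.mk.injEq, Subtype.mk.injEq] at e
    exact Subtype.ext (stab_ext hF (((mem_unip hF).1 g.2).trans ((mem_unip hF).1 k.2).symm) e.1 e.2)
  · rintro ⟨⟨b, c⟩, hc⟩
    obtain ⟨g, h1, h2, h3⟩ := exists_stab hF (one_pow (q + 1)) hc
    exact ⟨⟨g, (mem_unip hF).2 h1⟩, by simp [h2, h3]⟩

theorem sq_coords (g : ↥(stab F q)) (h : g * g = 1) : muC g = 1 ∧ bC g = 0 := by
  obtain ⟨h1, h2, h3⟩ := mul_coords hF g g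
  rw [h] at h1 h2 h3
  rw [(one_coords hF).1] at h1
  rw [(one_coords hF).2.2] at h3
  have hμ : muC g = 1 := by
    have e : (muC g - 1) * (muC g - 1) = 0 := by
      linear_combination -h1 + (1 - muC g) * (CharTwo.two_eq_zero (R := F))
    exact sub_eq_zero.1 (mul_self_eq_zero.1 e)
  refine ⟨hμ, ?_⟩
  rw [hμ, mul_one, CharTwo.add_self_eq_zero, zero_add, ← pow_succ'] at h3
  exact eq_zero_of_pow_eq_zero h3.symm

theorem orderOf_eq_two_iff (g : ↥(stab F q)) :
    orderOf g = 2 ↔ muC g = 1 ∧ bC g = 0 ∧ cC g ≠ 0 := by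
  rw [inv_iff]
  constructor
  · rintro ⟨hne, h⟩
    obtain ⟨h1, h2⟩ := sq_coords hF g h
    exact ⟨h1, h2, fun h3 => hne (stab_ext hF (h1.trans (one_coords hF).1.symm)
      (h2.trans (one_coords hF).2.1.symm) (h3.trans (one_coords hF).2.2.symm))⟩
  · rintro ⟨h1, h2, h3⟩
    refine ⟨fun e => h3 (by rw [e, (one_coords hF).2.2]), ?_⟩
    obtain ⟨e1, e2, e3⟩ := mul_coords hF g g
    refine stab_ext hF ?_ ?_ ?_
    · rw [e1, h1, one_mul, (one_coords hF).1]
    · rw [e2, h2, zero_mul, add_zero, (one_coords hF).2.1]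
    · rw [e3, h2, zero_mul, zero_mul, add_zero, CharTwo.add_self_eq_zero, (one_coords hF).2.2]

theorem central_of_coords {g : ↥(stab F q)} (h1 : muC g = 1) (h2 : bC g = 0) (k : ↥(stab F q)) :
    Commute g k := by
  obtain ⟨a1, a2, a3⟩ := mul_coords hF g k
  obtain ⟨b1, b2, b3⟩ := mul_coords hF k g
  refine stab_ext hF ?_ ?_ ?_
  · rw [a1, b1, mul_comm]
  · rw [a2, b2, h1, h2, zero_mul, mul_one, zero_add, add_zero]
  · rw [a3, b3, h2, zero_mul, zero_mul, add_zero, zero_pow (qne hF), mul_zero, zero_mul, add_zero,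
      add_comm]

theorem card_inv_stab : Nat.card {g : ↥(stab F q) // orderOf g = 2} = q - 1 := by
  classical
  have e : {g : ↥(stab F q) // orderOf g = 2} ≃
      {c : {c : F // c + c ^ q = 0} // c ≠ ⟨0, by simp [qne hF]⟩} := by
    refine Equiv.ofBijective (fun g => ⟨⟨cC g.1, ?_⟩, ?_⟩) ⟨fun g k e => ?_, ?_⟩
    · rw [(coords hF g.1).2.1, ((orderOf_eq_two_iff hF g.1).1 g.2).2.1,
        zero_pow (Nat.succ_ne_zero q)]
    · exact fun h => ((orderOf_eq_two_iff hF g.1).1 g.2).2.2 (congrArg Subtype.val h)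
    · obtain ⟨a1, a2, -⟩ := (orderOf_eq_two_iff hF g.1).1 g.2
      obtain ⟨b1, b2, -⟩ := (orderOf_eq_two_iff hF k.1).1 k.2
      simp only [Subtype.mk.injEq] at e
      exact Subtype.ext (stab_ext hF (a1.trans b1.symm) (a2.trans b2.symm) e)
    · rintro ⟨⟨c, hc⟩, hc0⟩
      obtain ⟨g, h1, h2, h3⟩ := exists_stab hF (b := (0 : F)) (one_pow (q + 1))
        (by rw [hc, zero_pow (Nat.succ_ne_zero q)])
      exact ⟨⟨g, (orderOf_eq_two_iff hF g).2 ⟨h1, h2, fun h => hc0 (Subtype.ext (h3.symm.trans h))⟩⟩,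
        Subtype.ext (Subtype.ext h3)⟩
  rw [Nat.card_congr e, Nat.card_eq_fintype_card, Fintype.card_subtype_compl,
    Fintype.card_subtype_eq, ← Nat.card_eq_fintype_card, card_fixed hF]

theorem self_cent_unip {a : ↥(stab F q)} (h : ∀ p ∈ unip hF, Commute a p) : a ∈ unip hF := by
  obtain ⟨c, hc⟩ := exists_trace hF (one_pow q)
  obtain ⟨p, h1, h2, -⟩ := exists_stab hF (b := (1 : F)) (one_pow (q + 1))
    (by rw [hc, one_pow])
  have e := congrArg bC (h p ((mem_unip hF).2 h1)).eq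
  rw [(mul_coords hF a p).2.1, (mul_coords hF p a).2.1, h1, h2, mul_one, one_mul, add_comm] at e
  exact (mem_unip hF).2 (add_left_cancel e).symm

theorem exists_norm_one_ne_one : ∃ l : F, l ^ (q + 1) = 1 ∧ l ≠ 1 := by
  have h : 1 < Nat.card {x : F // x ^ (q + 1) = 1} := by
    rw [Classical.natCard_normOne hF]; have := qne hF; omega
  haveI := Finite.one_lt_card_iff_nontrivial.1 h
  obtain ⟨⟨l, hl⟩, hne⟩ := exists_ne (⟨1, one_pow _⟩ : {x : F // x ^ (q + 1) = 1})
  exact ⟨l, hl, fun e => hne (Subtype.ext e)⟩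

theorem exists_diag {d : Fin 3 → F} (hd : ∀ i, d i ^ (q + 1) = 1) :
    ∃ g : ↥(Cfsg.GU 3 F q), g.1.1 = Matrix.diagonal d := by
  have hd0 : ∀ i, d i ≠ 0 := fun i h0 => by
    have := hd i
    rw [h0, zero_pow (Nat.succ_ne_zero q)] at this
    exact zero_ne_one this
  let M : GL (Fin 3) F := Matrix.GeneralLinearGroup.mkOfDetNeZero (Matrix.diagonal d)
    (by rw [Matrix.det_diagonal]; exact Finset.prod_ne_zero_iff.2 fun i _ => hd0 i)
  exact ⟨⟨M, LinClasses.UnitaryThree.diag_mem_GU hF M d rfl hd⟩, rfl⟩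

theorem central_scalar {z : ↥(Cfsg.GU 3 F q)} (hz : z ∈ Subgroup.center ↥(Cfsg.GU 3 F q)) :
    ∃ a : F, z.1.1 = a • (1 : Matrix (Fin 3) (Fin 3) F) := by
  obtain ⟨l, hl, hl1⟩ := exists_norm_one_ne_one hF
  obtain ⟨g₀, h₀⟩ := exists_diag hF (d := ![l, 1, 1]) (fun i => by fin_cases i <;> simp [hl])
  obtain ⟨g₁, h₁⟩ := exists_diag hF (d := ![1, l, 1]) (fun i => by fin_cases i <;> simp [hl])
  have key : ∀ (g : ↥(Cfsg.GU 3 F q)), z.1.1 * g.1.1 = g.1.1 * z.1.1 := fun g =>
    congrArg (fun w : ↥(Cfsg.GU 3 F q) => w.1.1) (Subgroup.mem_center_iff.1 hz g).symm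
  have hoff : ∀ {d : Fin 3 → F} {g : ↥(Cfsg.GU 3 F q)}, g.1.1 = Matrix.diagonal d →
      ∀ i j, d i ≠ d j → z.1.1 i j = 0 := by
    intro d g hg i j hne
    have h := congrFun (congrFun (key g) i) j
    rw [hg, Matrix.mul_diagonal, Matrix.diagonal_mul] at h
    have : (d j - d i) * z.1.1 i j = 0 := by linear_combination h
    exact (mul_eq_zero.1 this).resolve_left (sub_ne_zero.2 (Ne.symm hne))
  obtain ⟨c, hc⟩ := exists_trace hF (one_pow q)
  obtain ⟨p, p1, p2, p3⟩ := exists_stab hF (b := (1 : F)) (one_pow (q + 1)) (by rw [hc, one_pow])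
  have hp := key p.1
  have hm := (coords hF p).2.2
  rw [p1, p2, p3] at hm
  rw [hm] at hp
  have z01 := hoff h₀ 0 1 (by simp [hl1])
  have z02 := hoff h₀ 0 2 (by simp [hl1])
  have z10 := hoff h₀ 1 0 (by simp [Ne.symm hl1])
  have z20 := hoff h₀ 2 0 (by simp [Ne.symm hl1])
  have z12 := hoff h₁ 1 2 (by simp [hl1])
  have z21 := hoff h₁ 2 1 (by simp [Ne.symm hl1])
  have a02 := congrFun (congrFun hp 0) 2
  have a12 := congrFun (congrFun hp 1) 2
  simp [mat, Matrix.mul_apply, Fin.sum_univ_three, z01, z02, z10, z12] at a02 a12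
  refine ⟨z.1.1 2 2, ?_⟩
  ext i j
  fin_cases i <;> fin_cases j <;> simp [z01, z02, z10, z12, z20, z21, a02, a12]

theorem scalar_central {z : ↥(Cfsg.GU 3 F q)} {a : F}
    (hz : z.1.1 = a • (1 : Matrix (Fin 3) (Fin 3) F)) : z ∈ Subgroup.center ↥(Cfsg.GU 3 F q) := by
  refine Subgroup.mem_center_iff.2 fun g => Subtype.ext (Units.ext ?_)
  show g.1.1 * z.1.1 = z.1.1 * g.1.1
  rw [hz, Matrix.mul_smul, Matrix.smul_mul, mul_one, one_mul]

/-- An involution of `PGU₃(q)` with centraliser the stabiliser of a vector. -/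
theorem exists_centralizer_equiv :
    ∃ y : ↥(Cfsg.GU 3 F q) ⧸ Subgroup.center ↥(Cfsg.GU 3 F q), orderOf y = 2 ∧
      Nonempty (↥(stab F q) ≃* ↥(Subgroup.centralizer
        ({y} : Set (↥(Cfsg.GU 3 F q) ⧸ Subgroup.center ↥(Cfsg.GU 3 F q))))) := by
  have hq := qne hF
  obtain ⟨T, t1, t2, t3⟩ := exists_stab hF (b := (0 : F)) (c := (1 : F)) (one_pow (q + 1))
    (by rw [one_pow, CharTwo.add_self_eq_zero, zero_pow (Nat.succ_ne_zero q)])
  have hT : T.1.1.1 = mat q 1 0 1 := by rw [(coords hF T).2.2, t1, t2, t3]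
  have hTc : T.1 ∉ Subgroup.center ↥(Cfsg.GU 3 F q) := fun h => by
    obtain ⟨a, ha⟩ := central_scalar hF h
    have := congrFun (congrFun ha 1) 0
    rw [hT] at this
    simp [mat] at this
  have hT2 : T * T = 1 := mul_self_inv ((orderOf_eq_two_iff hF T).2 ⟨t1, t2, by rw [t3]; exact one_ne_zero⟩)
  set π := QuotientGroup.mk' (Subgroup.center ↥(Cfsg.GU 3 F q)) with hπ
  refine ⟨π T.1, inv_iff.2 ⟨fun h => hTc ((QuotientGroup.eq_one_iff _).1 h), by
    rw [← map_mul, ← Subgroup.coe_mul, hT2, Subgroup.coe_one, map_one]⟩, ?_⟩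
  let θ : ↥(stab F q) →* ↥(Subgroup.centralizer ({π T.1} : Set _)) :=
    (π.comp (stab F q).subtype).codRestrict _ fun k => by
      refine Subgroup.mem_centralizer_singleton_iff.2 ?_
      have h := congrArg (fun w : ↥(stab F q) => π w.1) (central_of_coords hF t1 t2 k).eq
      simp only [Subgroup.coe_mul, map_mul] at h
      exact h.symm
  refine ⟨MulEquiv.ofBijective θ ⟨?_, ?_⟩⟩
  · rw [← MonoidHom.ker_eq_bot_iff, Subgroup.eq_bot_iff_forall]
    intro k hk
    have hk' : k.1 ∈ Subgroup.center ↥(Cfsg.GU 3 F q) :=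
      (QuotientGroup.eq_one_iff _).1 (congrArg Subtype.val (MonoidHom.mem_ker.1 hk))
    obtain ⟨a, ha⟩ := central_scalar hF hk'
    have hm := (coords hF k).2.2
    rw [ha] at hm
    have e10 := congrFun (congrFun hm 1) 0
    have e00 := congrFun (congrFun hm 0) 0
    have e22 := congrFun (congrFun hm 2) 2
    have e02 := congrFun (congrFun hm 0) 2
    simp [mat] at e10 e00 e22 e02
    rw [← e10, add_zero] at e00
    exact stab_ext hF (by rw [(one_coords hF).1, ← e22, e00])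
      (by rw [(one_coords hF).2.1, ← e02]) (by rw [(one_coords hF).2.2, ← e10])
  · rintro ⟨x, hx⟩
    obtain ⟨g, rfl⟩ := QuotientGroup.mk'_surjective _ x
    rw [Subgroup.mem_centralizer_singleton_iff, ← hπ, ← map_mul, ← map_mul] at hx
    have hz := QuotientGroup.eq.1 hx
    obtain ⟨a, ha⟩ := central_scalar hF hz
    have e : (T.1 * g).1.1 = a • (g * T.1).1.1 := by
      have h0 : T.1 * g = g * T.1 * ((g * T.1)⁻¹ * (T.1 * g)) := by group
      calc (T.1 * g).1.1 = (g * T.1 * ((g * T.1)⁻¹ * (T.1 * g))).1.1 := by rw [← h0]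
        _ = (g * T.1).1.1 * ((g * T.1)⁻¹ * (T.1 * g)).1.1 := rfl
        _ = a • (g * T.1).1.1 := by rw [ha, Matrix.mul_smul, mul_one]
    set A := g.1.1 with hA
    have e' : mat q 1 0 1 * A = a • (A * mat q 1 0 1) := by rw [← hT]; exact e
    have hTT : mat q 1 0 1 * mat q (1 : F) 0 1 = 1 := by
      rw [← hT]; exact congrArg (fun w : ↥(stab F q) => w.1.1.1) hT2
    have ha1 : a = 1 := by
      have h3 : A = (a * a) • A := by
        calc A = mat q 1 0 1 * (mat q 1 0 1 * A) := by rw [← mul_assoc, hTT, one_mul]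
          _ = a • (mat q 1 0 1 * A * mat q 1 0 1) := by
            conv_lhs => rw [e', Matrix.mul_smul, ← mul_assoc]
          _ = (a * a) • A := by rw [e', Matrix.smul_mul, smul_smul, mul_assoc, hTT, mul_one]
      obtain ⟨i, j, hne⟩ : ∃ i j, A i j ≠ 0 := by
        by_contra hall
        push Not at hall
        have h0 : A = 0 := by ext i j; exact hall i j
        have h1 : A * g.1⁻¹.1 = 1 := by rw [hA, ← Units.val_mul, mul_inv_cancel, Units.val_one]
        rw [h0, zero_mul] at h1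
        exact zero_ne_one (congrFun (congrFun h1 0) 0)
      have h4 := congrFun (congrFun h3 i) j
      rw [Matrix.smul_apply, smul_eq_mul] at h4
      have h5 : a * a = 1 := mul_right_cancel₀ hne (by rw [one_mul]; exact h4.symm)
      rcases mul_self_eq_one_iff.1 h5 with h6 | h6
      · exact h6
      · rwa [CharTwo.neg_eq] at h6
    rw [ha1, one_smul] at e'
    have c00 := congrFun (congrFun e' 0) 1
    have c01 := congrFun (congrFun e' 0) 0
    have c20 := congrFun (congrFun e' 2) 0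
    simp [mat, Matrix.mul_apply, Fin.sum_univ_three, hq, CharTwo.add_self_eq_zero] at c00 c01 c20
    set lam := A 0 0 + A 0 1 with hlam
    have hAe : A *ᵥ eVec F = lam • eVec F := by
      funext i
      fin_cases i <;> simp [Matrix.mulVec, dotProduct, Fin.sum_univ_three, eVec, hlam]
      · linear_combination c00 + c01
      · linear_combination c20 + CharTwo.add_self_eq_zero (A 2 1)
    have hN : lam ^ (q + 1) = 1 := by
      have h : Cfsg.hermForm 3 F q (A *ᵥ ![1, 0, 0]) (A *ᵥ eVec F) =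
          Cfsg.hermForm 3 F q ![1, 0, 0] (eVec F) := g.2 ![1, 0, 0] (eVec F)
      rw [hAe] at h
      simp [Matrix.mulVec, dotProduct, Cfsg.hermForm, Fin.sum_univ_three, eVec, hq] at h
      rw [pow_succ]
      linear_combination h - lam ^ q * c01 + lam ^ q * hlam
    have hlam0 : lam ≠ 0 := fun h0 => by
      rw [h0, zero_pow (Nat.succ_ne_zero q)] at hN; exact zero_ne_one hN
    obtain ⟨s, hs⟩ := exists_diag hF (d := fun _ => lam⁻¹) (fun _ => by rw [inv_pow, hN, inv_one])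
    have hs' : s.1.1 = lam⁻¹ • (1 : Matrix (Fin 3) (Fin 3) F) := by
      rw [hs, Matrix.smul_one_eq_diagonal]
    have hmem : s * g ∈ stab F q := by
      show (s.1.1 * A) *ᵥ eVec F = eVec F
      rw [← Matrix.mulVec_mulVec, hAe, hs', Matrix.smul_mulVec, Matrix.one_mulVec, smul_smul,
        inv_mul_cancel₀ hlam0, one_smul]
    refine ⟨⟨s * g, hmem⟩, Subtype.ext ?_⟩
    show π (s * g) = π g
    rw [map_mul, show π s = 1 from (QuotientGroup.eq_one_iff _).2 (scalar_central hF hs'), one_mul]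

/-- Centraliser data from the hypothesis of the theorem. -/
theorem centData_of_iso {G : Type u} [Group G] {x : G}
    (e : ↥(stab F q) ≃* ↥(Subgroup.centralizer ({x} : Set G))) :
    ∃ P, CentData q x P := by
  set C : Subgroup G := Subgroup.centralizer ({x} : Set G) with hC
  let f : ↥(stab F q) →* G := C.subtype.comp e.toMonoidHom
  have hf : Function.Injective f := Subtype.coe_injective.comp e.injective
  have hsurj : ∀ a ∈ C, ∃ k, f k = a := fun a ha =>
    ⟨e.symm ⟨a, ha⟩, by show ((e (e.symm ⟨a, ha⟩) : C) : G) = a; rw [e.apply_symm_apply]⟩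
  refine ⟨(unip hF).map f, ?_, ?_, ?_, ?_, ?_, ?_, ?_, ?_⟩
  · rintro _ ⟨k, -, rfl⟩; exact (e k).2
  · rw [← Nat.card_congr (Subgroup.equivMapOfInjective _ f hf).toEquiv, card_unip hF]
  · rw [← Nat.card_congr e.toEquiv, card_stab hF]
  · rintro a ha _ ⟨p, hp, rfl⟩
    obtain ⟨k, rfl⟩ := hsurj a ha
    exact ⟨k * p * k⁻¹, (MonoidHom.normal_ker (muHom hF)).conj_mem p hp k, by simp⟩
  · intro a ha b hb
    obtain ⟨k, rfl⟩ := hsurj a ha
    obtain ⟨l, rfl⟩ := hsurj b hb
    refine ⟨k * l * k⁻¹ * l⁻¹, MonoidHom.mem_ker.2 ?_, by simp⟩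
    have h1 : muHom hF k * muHom hF k⁻¹ = 1 := by rw [← map_mul, mul_inv_cancel, map_one]
    have h2 : muHom hF l * muHom hF l⁻¹ = 1 := by rw [← map_mul, mul_inv_cancel, map_one]
    rw [map_mul, map_mul, map_mul]
    linear_combination muHom hF l * muHom hF l⁻¹ * h1 + h2
  · intro z hz hz2 a ha
    obtain ⟨k, rfl⟩ := hsurj z hz
    obtain ⟨l, rfl⟩ := hsurj a ha
    rw [orderOf_injective f hf, orderOf_eq_two_iff hF] at hz2
    exact (central_of_coords hF hz2.1 hz2.2.1 l).map f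
  · rw [← card_inv_stab hF]
    symm
    refine Nat.card_congr (Equiv.ofBijective
      (fun k => (⟨f k.1, (e k.1).2, by rw [orderOf_injective f hf]; exact k.2⟩ :
        {z : G // z ∈ C ∧ orderOf z = 2})) ⟨fun k l h => ?_, ?_⟩)
    · apply Subtype.ext
      apply hf
      have h' := congrArg Subtype.val h
      exact h'
    · rintro ⟨z, hz, hz2⟩
      obtain ⟨k, rfl⟩ := hsurj z hz
      rw [orderOf_injective f hf] at hz2
      exact ⟨⟨k, hz2⟩, rfl⟩
  · intro a ha h
    obtain ⟨k, rfl⟩ := hsurj a ha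
    refine ⟨k, self_cent_unip hF fun p hp => hf ?_, rfl⟩
    rw [map_mul, map_mul]
    exact h _ ⟨p, hp, rfl⟩

/-- The hypothesis of the recognition machinery from the statement's hypotheses. -/
theorem hyp_of_statement {G : Type u} [Group G] [Finite G] (hq : 2 < q)
    (heven : Even (Nat.card G)) (hconj : ∀ s t : G, orderOf s = 2 → orderOf t = 2 → IsConj s t)
    (hC : ∀ (x : G) (y : (↥(Cfsg.GU 3 F q) ⧸ Subgroup.center ↥(Cfsg.GU 3 F q))),
      orderOf x = 2 → orderOf y = 2 →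
      Nonempty (↥(Subgroup.centralizer ({x} : Set G)) ≃* ↥(Subgroup.centralizer
        ({y} : Set (↥(Cfsg.GU 3 F q) ⧸ Subgroup.center ↥(Cfsg.GU 3 F q))))))
    (hS : ∀ P : Sylow 2 G, ¬ (P : Subgroup G).Normal) : ∃ n, Hyp G q n := by
  haveI : Fact (Nat.Prime 2) := ⟨Nat.prime_two⟩
  obtain ⟨n', -, hn⟩ := FiniteField.card F 2
  have hdvd : q ∣ 2 ^ (n' : ℕ) := by rw [← hn, hF]; exact dvd_pow_self q two_ne_zero
  obtain ⟨n, -, rfl⟩ := (Nat.dvd_prime_pow Nat.prime_two).1 hdvd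
  obtain ⟨y, hy, ⟨θ⟩⟩ := exists_centralizer_equiv hF
  exact ⟨n, hq, rfl, hconj, fun x hx => (hC x y hx hy).elim fun e => centData_of_iso hF (θ.trans e.symm),
    exists_prime_orderOf_dvd_card' 2 (even_iff_two_dvd.1 heven), hS⟩

end Cfsg.Agent.Lib.UThreeTwoRecog26
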