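import Cfsg.Agent.Lib.UThreeTwoRecog26.Basic

/-!
The normaliser `M` of a Sylow 2-subgroup: trivial intersections, order, involution count.
-/

set_option autoImplicit false
set_option linter.unusedSectionVars false
set_option linter.style.haveILetI false

namespace Cfsg.Agent.Lib.UThreeTwoRecog26

universe u

/-- A fixed involution with its Sylow 2-subgroup. -/
structure Base (G : Type u) [Group G] (q n : ℕ) extends Hyp G q n where
  x : G
  P : Subgroup G
  hx : orderOf x = 2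
  hP : CentData q x P

namespace Base

variable {G : Type u} [Group G] {q n : ℕ} (B : Base G q n)

/-- The centraliser of the involution. -/
abbrev C : Subgroup G := Subgroup.centralizer {B.x}

/-- The Sylow normaliser. -/
abbrev M : Subgroup G := Subgroup.normalizer (B.P : Set G)

variable [Finite G]

theorem x_mem_P : B.x ∈ B.P := B.toHyp.x_mem B.hx B.hP

theorem centralizer_eq {z : G} (hz : z ∈ B.C) (hz2 : orderOf z = 2) :
    Subgroup.centralizer ({z} : Set G) = B.C :=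
  B.toHyp.centralizer_eq_of_mem (B.toHyp.P_isPGroup B.hP) (B.toHyp.mem_P_of_orderOf B.hP hz hz2)
    B.x_mem_P hz2 B.hx

include B in
theorem le_centralizer_of_mem {R : Subgroup G} (hR : IsPGroup 2 R) {z : G} (hzR : z ∈ R)
    (hz : orderOf z = 2) : R ≤ Subgroup.centralizer ({z} : Set G) := by
  haveI : Nontrivial R := ⟨⟨z, hzR⟩, 1, fun e =>
    (inv_iff.1 hz).1 (by simpa using congrArg Subtype.val e)⟩
  haveI : Fact (Nat.Prime 2) := ⟨Nat.prime_two⟩
  haveI := hR.center_nontrivial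
  obtain ⟨c, hc⟩ := exists_prime_orderOf_dvd_card' (G := Subgroup.center R) 2 (by
    obtain ⟨k, hk0, hk⟩ := (hR.to_subgroup (Subgroup.center R)).nontrivial_iff_card.1
      inferInstance
    rw [hk]; exact dvd_pow_self 2 hk0.ne')
  have hc2 : orderOf ((c : R) : G) = 2 := by rw [Subgroup.orderOf_coe, Subgroup.orderOf_coe, hc]
  rw [B.toHyp.centralizer_eq_of_mem hR hzR (c : R).2 hz hc2]
  exact fun a ha => Subgroup.mem_centralizer_singleton_iff.2
    (congrArg Subtype.val (Subgroup.mem_center_iff.1 c.2 ⟨a, ha⟩))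

theorem le_P_of_mem {R : Subgroup G} (hR : IsPGroup 2 R) {z : G} (hzR : z ∈ R) (hzC : z ∈ B.C)
    (hz : orderOf z = 2) : R ≤ B.P := by
  intro r hr
  refine B.toHyp.mem_P B.hP ?_ ?_
  · have e := B.centralizer_eq hzC hz
    show r ∈ B.C
    rw [← e]; exact B.le_centralizer_of_mem hR hzR hz hr
  · obtain ⟨k, hk⟩ := hR ⟨r, hr⟩
    exact ⟨k, by simpa using congrArg Subtype.val hk⟩

theorem C_le_M : B.C ≤ B.M := fun g hg => mem_normalizer_of_conj (B.hP.normal g hg)

theorem P_le_M : B.P ≤ B.M := B.hP.le.trans B.C_le_M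

theorem conj_P_mem {m p : G} (hm : m ∈ B.M) (hp : p ∈ B.P) : m * p * m⁻¹ ∈ B.P :=
  (Subgroup.mem_normalizer_iff.1 hm p).1 hp

theorem conj_C_mem {m c : G} (hm : m ∈ B.M) (hc : c ∈ B.C) : m * c * m⁻¹ ∈ B.C := by
  have h := conj_mem_centralizer (g := m) hc
  rwa [B.centralizer_eq (B.hP.le (B.conj_P_mem hm B.x_mem_P)) (by rw [orderOf_conj, B.hx])] at h

theorem mem_P_iff {z : G} (hz : orderOf z = 2) : z ∈ B.P ↔ z ∈ B.C :=
  ⟨fun h => B.hP.le h, fun h => B.toHyp.mem_P_of_orderOf B.hP h hz⟩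

/-- Trivial intersection. -/
theorem mem_M_of_inter {g z : G} (hz : orderOf z = 2) (hzP : z ∈ B.P)
    (hzg : g⁻¹ * z * g ∈ B.P) : g ∈ B.M := by
  have hR : IsPGroup 2 (B.P.map (MulAut.conj g).toMonoidHom) :=
    (B.toHyp.P_isPGroup B.hP).map _
  have hzR : z ∈ B.P.map (MulAut.conj g).toMonoidHom :=
    ⟨_, hzg, show g * (g⁻¹ * z * g) * g⁻¹ = z by group⟩
  have hle := B.le_P_of_mem hR hzR (B.hP.le hzP) hz
  exact mem_normalizer_of_conj fun a ha => hle ⟨a, ha, rfl⟩

theorem inv_mem_P_of_mem_M {z : G} (hz : orderOf z = 2) (hzM : z ∈ B.M) : z ∈ B.P := by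
  have hR : IsPGroup 2 (Subgroup.zpowers z ⊔ B.P : Subgroup G) := by
    refine IsPGroup.to_sup_of_normal_right' ?_ (B.toHyp.P_isPGroup B.hP) ?_
    · exact IsPGroup.of_card (n := 1) (by rw [Nat.card_zpowers, hz, pow_one])
    · exact Subgroup.zpowers_le.2 hzM
  exact B.le_P_of_mem hR (Subgroup.mem_sup_right B.x_mem_P)
    (Subgroup.mem_centralizer_singleton_iff.2 rfl) B.hx
    (Subgroup.mem_sup_left (Subgroup.mem_zpowers z))

theorem isSylow : ∃ S : Sylow 2 G, (S : Subgroup G) = B.P := by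
  obtain ⟨S, hS⟩ := (B.toHyp.P_isPGroup B.hP).exists_le_sylow
  exact ⟨S, le_antisymm (B.le_P_of_mem S.isPGroup' (hS B.x_mem_P)
    (Subgroup.mem_centralizer_singleton_iff.2 rfl) B.hx) hS⟩

theorem exists_not_mem : ∃ g : G, g ∉ B.M := by
  by_contra hne
  push Not at hne
  obtain ⟨S, hS⟩ := B.isSylow
  refine B.not_normal S ⟨fun p hp g => ?_⟩
  rw [hS] at hp ⊢
  exact B.conj_P_mem (hne g) hp

/-- Orbit and stabiliser for the conjugation of `x` by a subgroup. -/
theorem card_orbit (H : Subgroup G) (T : Set G)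
    (hmaps : ∀ g ∈ H, g * B.x * g⁻¹ ∈ T) (hsurj : ∀ z ∈ T, ∃ g ∈ H, g * B.x * g⁻¹ = z) :
    Nat.card T * Nat.card (B.C.subgroupOf H) = Nat.card H := by
  have hiff : ∀ g k : H, ((g : G) * B.x * (g : G)⁻¹ = k * B.x * (k : G)⁻¹) ↔
      g⁻¹ * k ∈ B.C.subgroupOf H := by
    intro g k
    rw [Subgroup.mem_subgroupOf, Subgroup.mem_centralizer_singleton_iff]
    simp only [Subgroup.coe_mul, Subgroup.coe_inv]
    constructor
    · intro e
      calc (g : G)⁻¹ * k * B.x = (g : G)⁻¹ * ((k : G) * B.x * (k : G)⁻¹) * k := by group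
        _ = B.x * ((g : G)⁻¹ * k) := by rw [← e]; group
    · intro e
      calc (g : G) * B.x * (g : G)⁻¹ = (g : G) * (B.x * ((g : G)⁻¹ * k)) * (k : G)⁻¹ := by group
        _ = k * B.x * (k : G)⁻¹ := by rw [← e]; group
  let f : H ⧸ B.C.subgroupOf H → T := fun c => Quotient.liftOn' c
    (fun g => (⟨(g : G) * B.x * (g : G)⁻¹, hmaps g g.2⟩ : T))
    (fun g k hgk => Subtype.ext ((hiff g k).2 (QuotientGroup.leftRel_apply.1 hgk)))
  have hf : Function.Bijective f := by
    constructor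
    · intro c d
      induction c using Quotient.inductionOn' with | h g => ?_
      induction d using Quotient.inductionOn' with | h k => ?_
      intro e
      exact Quotient.sound' (QuotientGroup.leftRel_apply.2 ((hiff g k).1 (congrArg Subtype.val e)))
    · rintro ⟨z, hz⟩
      obtain ⟨g, hg, e⟩ := hsurj z hz
      exact ⟨((⟨g, hg⟩ : H) : H ⧸ B.C.subgroupOf H), Subtype.ext e⟩
  rw [← Nat.card_eq_of_bijective f hf]
  exact (Subgroup.card_eq_card_quotient_mul_card_subgroup _).symm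

theorem card_M : Nat.card B.M = (q - 1) * (q ^ 3 * (q + 1)) := by
  have h := B.card_orbit B.M {z : G | z ∈ B.C ∧ orderOf z = 2} (fun g hg =>
      ⟨B.hP.le (B.conj_P_mem hg B.x_mem_P), by rw [orderOf_conj, B.hx]⟩) (fun z hz => ?_)
  · rw [Nat.card_congr (Subgroup.subgroupOfEquivOfLe B.C_le_M).toEquiv, B.hP.card_C] at h
    rw [← h]; congr 1
    exact B.hP.count
  · obtain ⟨g, hg⟩ := isConj_iff.1 (B.one_class B.x z B.hx hz.2)
    refine ⟨g, B.mem_M_of_inter hz.2 ((B.mem_P_iff hz.2).2 hz.1) ?_, hg⟩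
    rw [← hg, show g⁻¹ * (g * B.x * g⁻¹) * g = B.x by group]
    exact B.x_mem_P

theorem card_involutions : Nat.card {z : G // orderOf z = 2} = B.M.index * (q - 1) := by
  have h := B.card_orbit ⊤ {z : G | orderOf z = 2}
    (fun g _ => by show orderOf (g * B.x * g⁻¹) = 2; rw [orderOf_conj, B.hx])
    (fun z hz => by
      obtain ⟨g, hg⟩ := isConj_iff.1 (B.one_class B.x z B.hx hz)
      exact ⟨g, trivial, hg⟩)
  rw [Nat.card_congr (Subgroup.subgroupOfEquivOfLe le_top).toEquiv, B.hP.card_C,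
    Subgroup.card_top, ← B.M.index_mul_card, B.card_M] at h
  have h0 : 0 < q ^ 3 * (q + 1) :=
    Nat.mul_pos (pow_pos (by have := B.two_lt; omega : 0 < q) 3) (Nat.succ_pos q)
  exact Nat.eq_of_mul_eq_mul_right h0 (h.trans (mul_assoc _ _ _).symm)

theorem card_inv_M : Nat.card {z : G // orderOf z = 2 ∧ z ∈ B.M} = q - 1 := by
  rw [← B.hP.count]
  refine Nat.card_congr (Equiv.subtypeEquivRight fun z => ?_)
  exact ⟨fun ⟨h1, h2⟩ => ⟨B.hP.le (B.inv_mem_P_of_mem_M h1 h2), h1⟩,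
    fun ⟨h1, h2⟩ => ⟨h2, B.C_le_M h1⟩⟩

end Base

end Cfsg.Agent.Lib.UThreeTwoRecog26
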