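import Cfsg.Prelude.Def_LieRecognition
import Cfsg.Agent.S0001
import Cfsg.Agent.Lib.UThreeTwoRecog26.Cosets

/-!
`G` is doubly transitive on the cosets of `M` and satisfies the split rank-one set-up.
-/

set_option autoImplicit false
set_option linter.unusedSectionVars false
set_option linter.style.haveILetI false

open Pointwise

namespace Cfsg.Agent.Lib.UThreeTwoRecog26

universe u

namespace Base

variable {G : Type u} [Group G] [Finite G] {q n : ℕ} {B : Base G q n} {u v : G}

theorem K_le_M (hu : B.Out u) : K hu ≤ B.M := fun _ hd => hd.1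

theorem K_inf_C (hu : B.Out u) {d : G} (hd : d ∈ K hu) (hC : d ∈ B.C) : d = 1 :=
  J_C_eq_one hu hd hC

theorem K_compl (hu : B.Out u) :
    Subgroup.IsComplement' (B.C.subgroupOf B.M) ((K hu).subgroupOf B.M) := by
  refine Subgroup.isComplement'_of_coprime ?_ ?_
  · rw [Nat.card_congr (Subgroup.subgroupOfEquivOfLe B.C_le_M).toEquiv,
      Nat.card_congr (Subgroup.subgroupOfEquivOfLe (K_le_M hu)).toEquiv, B.hP.card_C, card_K,
      B.card_M, mul_comm]
  · rw [Nat.card_congr (Subgroup.subgroupOfEquivOfLe B.C_le_M).toEquiv,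
      Nat.card_congr (Subgroup.subgroupOfEquivOfLe (K_le_M hu)).toEquiv, B.hP.card_C, card_K]
    exact B.toHyp.coprime_C.symm

theorem exists_conj_K (hu : B.Out u) (hv : B.Out v) :
    ∃ m ∈ B.M, ∀ k ∈ K hu, m * k * m⁻¹ ∈ K hv := by
  haveI := C_normal (B := B)
  have hcomm : ∀ a b : B.M ⧸ B.C.subgroupOf B.M, a * b = b * a := by
    intro a b
    induction a using QuotientGroup.induction_on with | H a => ?_
    induction b using QuotientGroup.induction_on with | H b => ?_
    rw [← QuotientGroup.mk_mul, ← QuotientGroup.mk_mul, QuotientGroup.eq, Subgroup.mem_subgroupOf]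
    have := quot_comm hu (inv_mem b.2) (inv_mem a.2)
    rw [Subgroup.coe_mul, Subgroup.coe_inv, Subgroup.coe_mul, Subgroup.coe_mul]
    simpa [mul_assoc] using this
  obtain ⟨m, hm⟩ := Cfsg.Agent.S0001.result (B.C.subgroupOf B.M) (by
      rw [index_C_subgroupOf, Nat.card_congr (Subgroup.subgroupOfEquivOfLe B.C_le_M).toEquiv,
        B.hP.card_C]
      exact B.toHyp.coprime_C.symm)
    (Or.inr (Group.isSolvable_of_comm hcomm)) _ _ (K_compl hu) (K_compl hv)
  refine ⟨m, m.2, fun k hk => ?_⟩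
  have hk' : (⟨k, K_le_M hu hk⟩ : B.M) ∈ (K hu).subgroupOf B.M := Subgroup.mem_subgroupOf.2 hk
  have := Subgroup.smul_mem_pointwise_smul _ (MulAut.conj m) _ hk'
  rw [hm] at this
  exact Subgroup.mem_subgroupOf.1 this

theorem normalizes_commutes (hu : B.Out u) {m k : G} (hm : m ∈ B.M) (hk : k ∈ K hu)
    (h : m * k * m⁻¹ ∈ K hu) : Commute m k := by
  have hC : m * k * m⁻¹ * k⁻¹ ∈ B.C := quot_comm hu hm hk.1
  have h1 := K_inf_C hu (mul_mem h (inv_mem hk)) hC
  rw [mul_inv_eq_one, mul_inv_eq_iff_eq_mul] at h1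
  exact h1

theorem K_nontrivial (hu : B.Out u) : ∃ k ∈ K hu, k ≠ 1 := by
  by_contra h
  push Not at h
  have : K hu = ⊥ := (Subgroup.eq_bot_iff_forall _).2 h
  have e := card_K hu
  rw [this, Subgroup.card_bot] at e
  have := B.two_lt; omega

theorem not_commute_inverter (hu : B.Out u) (hc : ∀ k ∈ K hu, Commute u k) : False := by
  obtain ⟨k, hk, hk1⟩ := K_nontrivial hu
  refine hk1 (eq_one_of_odd_self (odd_of_mem_D hu (J_mem_D hu hk)) ?_)
  have e : u * k * u = k := by rw [(hc k hk).eq, mul_assoc, mul_self_inv hu.order, mul_one]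
  rw [hk.2] at e
  calc k * k = k⁻¹ * k := by rw [e]
    _ = 1 := inv_mul_cancel k

/-- The centraliser of `K` lies in `M`. -/
theorem cent_K_le (hu : B.Out u) {g : G} (hg : ∀ k ∈ K hu, Commute g k) : g ∈ B.M := by
  by_contra hgM
  obtain ⟨v, hv, hvg⟩ := exists_out_of_not_mem hgM
  set m := v⁻¹ * g with hm
  have hmM : m ∈ B.M := QuotientGroup.eq.1 hvg
  have hgv : g = v * m := by rw [hm]; group
  have key : ∀ k ∈ K hu, v * k * v = m * k * m⁻¹ := by
    intro k hk
    calc v * k * v = v⁻¹ * (g * k * g⁻¹) * v := by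
          rw [(hg k hk).eq, mul_inv_cancel_right, inv_eq_self hv.order]
      _ = m * k * m⁻¹ := by rw [hm]; group
  have hle : ∀ k ∈ K hu, k ∈ K hv := by
    intro k hk
    refine mem_K_of_pow hv ((mem_D hv).2 ⟨hk.1, ?_⟩) (J_pow hu hk)
    rw [key k hk]
    exact mul_mem (mul_mem hmM hk.1) (inv_mem hmM)
  have heq : K hu = K hv := Subgroup.eq_of_le_of_card_ge hle (by rw [card_K, card_K])
  refine not_commute_inverter hv fun k hk => ?_
  rw [← heq] at hk
  have h2 : m * k * m⁻¹ ∈ K hu := by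
    rw [← key k hk, heq, (hle k hk).2]
    exact inv_mem (hle k hk)
  have hc := normalizes_commutes hu hmM hk h2
  have e : v = g * m⁻¹ := by rw [hgv]; group
  rw [e]
  exact (hg k hk).mul_left hc.inv_left

theorem coset_eq_of_inverts (hu : B.Out u) {w : G} (hw : orderOf w = 2)
    (h : ∀ k ∈ K hu, w * k * w = k⁻¹) : (w : G ⧸ B.M) = (u : G ⧸ B.M) := by
  refine QuotientGroup.eq.2 (cent_K_le hu fun k hk => ?_)
  rw [inv_eq_self hw]
  show w * u * k = k * (w * u)
  have h1 : u * k * u = k⁻¹ := hk.2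
  have h2 : u * k = k⁻¹ * u := by rw [← h1, mul_assoc, mul_self_inv hu.order, mul_one]
  have h3 : w * k⁻¹ * w = k := by rw [h k⁻¹ (inv_mem hk), inv_inv]
  calc w * u * k = w * k⁻¹ * u := by rw [mul_assoc, h2, ← mul_assoc]
    _ = w * k⁻¹ * (w * w) * u := by rw [mul_self_inv hw, mul_one]
    _ = k * (w * u) := by rw [← mul_assoc (w * k⁻¹), h3, mul_assoc]

theorem exists_move (hu : B.Out u) (hv : B.Out v) :
    ∃ m ∈ B.M, ((m * u : G) : G ⧸ B.M) = (v : G ⧸ B.M) := by
  obtain ⟨m, hm, hmK⟩ := exists_conj_K hu hv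
  refine ⟨m, hm, ?_⟩
  have hsurj : ∀ k' ∈ K hv, ∃ k ∈ K hu, m * k * m⁻¹ = k' := by
    intro k' hk'
    have he : (K hu).map (MulAut.conj m).toMonoidHom = K hv := by
      refine Subgroup.eq_of_le_of_card_ge ?_ ?_
      · rintro _ ⟨a, ha, rfl⟩; exact hmK a ha
      · rw [Nat.card_congr (Subgroup.equivMapOfInjective (K hu) _ (MulAut.conj m).injective).toEquiv.symm,
          card_K, card_K]
    rw [← he] at hk'
    obtain ⟨k, hk, e⟩ := hk'
    exact ⟨k, hk, e⟩
  have h := coset_eq_of_inverts hv (w := m * u * m⁻¹) (by rw [orderOf_conj, hu.order]) (fun k' hk' => ?_)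
  · rw [← h, QuotientGroup.eq]
    have : (m * u)⁻¹ * (m * u * m⁻¹) = m⁻¹ := by group
    rw [this]; exact inv_mem hm
  · obtain ⟨k, hk, rfl⟩ := hsurj k' hk'
    have h1 : u * k * u = k⁻¹ := hk.2
    calc m * u * m⁻¹ * (m * k * m⁻¹) * (m * u * m⁻¹) = m * (u * k * u) * m⁻¹ := by group
      _ = (m * k * m⁻¹)⁻¹ := by rw [h1]; group

theorem two_transitive : MulAction.IsMultiplyPretransitive G (G ⧸ B.M) 2 := by
  rw [MulAction.is_two_pretransitive_iff]
  intro a b c d hab hcd
  induction a using QuotientGroup.induction_on with | H a => ?_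
  induction b using QuotientGroup.induction_on with | H b => ?_
  induction c using QuotientGroup.induction_on with | H c => ?_
  induction d using QuotientGroup.induction_on with | H d => ?_
  have hb : a⁻¹ * b ∉ B.M := fun h => hab (QuotientGroup.eq.2 h)
  have hd : c⁻¹ * d ∉ B.M := fun h => hcd (QuotientGroup.eq.2 h)
  obtain ⟨u, hu, eu⟩ := exists_out_of_not_mem hb
  obtain ⟨v, hv, ev⟩ := exists_out_of_not_mem hd
  obtain ⟨m, hm, e⟩ := exists_move hu hv
  refine ⟨c * m * a⁻¹, ?_, ?_⟩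
  · rw [MulAction.Quotient.smul_coe, smul_eq_mul, QuotientGroup.eq,
      show (c * m * a⁻¹ * a)⁻¹ * c = m⁻¹ by group]
    exact inv_mem hm
  · rw [MulAction.Quotient.smul_coe, smul_eq_mul, QuotientGroup.eq]
    have e' := QuotientGroup.eq.1 eu
    have e'' := QuotientGroup.eq.1 e
    have e3 := QuotientGroup.eq.1 ev
    have : (c * m * a⁻¹ * b)⁻¹ * d =
        (u⁻¹ * (a⁻¹ * b))⁻¹ * ((m * u)⁻¹ * v) * (v⁻¹ * (c⁻¹ * d)) := by group
    rw [this]
    exact mul_mem (mul_mem (inv_mem e') e'') e3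

variable (B) in
/-- The stabiliser of the base point. -/
theorem stabilizer_base : MulAction.stabilizer G ((1 : G) : G ⧸ B.M) = B.M := by
  ext g
  rw [MulAction.mem_stabilizer_iff, MulAction.Quotient.smul_coe, smul_eq_mul, mul_one,
    QuotientGroup.eq, mul_one, inv_mem_iff]

theorem two_point (hu : B.Out u) :
    MulAction.stabilizer G ((1 : G) : G ⧸ B.M) ⊓
      MulAction.stabilizer G (u • ((1 : G) : G ⧸ B.M)) = B.D u := by
  rw [stabilizer_base]
  ext g
  rw [Subgroup.mem_inf, mem_D hu, MulAction.mem_stabilizer_iff]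
  simp only [MulAction.Quotient.smul_coe, smul_eq_mul, mul_one, QuotientGroup.eq, mul_inv_rev,
    inv_eq_self hu.order]
  refine and_congr_right fun _ => ?_
  rw [show u * g⁻¹ * u = (u * g * u)⁻¹ by rw [mul_inv_rev, mul_inv_rev, inv_eq_self hu.order, mul_assoc],
    inv_mem_iff]

theorem odd_D (hu : B.Out u) : Odd (Nat.card (B.D u)) := by
  rw [← Nat.not_even_iff_odd, even_iff_two_dvd]
  intro h
  haveI : Fact (Nat.Prime 2) := ⟨Nat.prime_two⟩
  obtain ⟨g, hg⟩ := exists_prime_orderOf_dvd_card' 2 h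
  have := odd_of_mem_D hu g.2
  rw [Subgroup.orderOf_coe, hg] at this
  exact absurd this (by decide)

end Base

end Cfsg.Agent.Lib.UThreeTwoRecog26
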