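import Cfsg.Agent.Lib.UThreeTwoRecog26.Setup

/-!
The normal complement `Q` of the two-point stabiliser, the set-up, and the degree.
-/

set_option autoImplicit false
set_option linter.unusedSectionVars false
set_option linter.style.haveILetI false

namespace Cfsg.Agent.Lib.UThreeTwoRecog26

universe u

namespace Base

variable {G : Type u} [Group G] [Finite G] {q n : ℕ} {B : Base G q n} {t : G}

theorem P_inter_D (ht : B.Out t) {a : G} (hP : a ∈ B.P) (hD : a ∈ B.D t) : a = 1 := by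
  obtain ⟨k, hk⟩ := B.toHyp.P_isPGroup B.hP ⟨a, hP⟩
  have hk' : a ^ 2 ^ k = 1 := by simpa using congrArg Subtype.val hk
  refine eq_one_of_pows ?_ hk' (pow_orderOf_eq_one a)
  exact Nat.Coprime.pow_left _ (Nat.coprime_two_left.2 (odd_of_mem_D ht hD))

theorem fpf_P (ht : B.Out t) {a k : G} (ha : a ∈ B.P) (hk : k ∈ K ht) (hk1 : k ≠ 1)
    (hc : Commute a k) : a = 1 := by
  by_contra ha1
  obtain ⟨j, hj⟩ := B.toHyp.P_isPGroup B.hP ⟨a, ha⟩
  have hj' : a ^ 2 ^ j = 1 := by simpa using congrArg Subtype.val hj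
  obtain ⟨i, -, hi⟩ := (Nat.dvd_prime_pow Nat.prime_two).1 (orderOf_dvd_of_pow_eq_one hj')
  have h2 : 2 ∣ orderOf a := by
    rw [hi]
    exact dvd_pow_self 2 (fun h0 => ha1 (orderOf_eq_one_iff.1 (by rw [hi, h0, pow_zero])))
  have hz : orderOf (a ^ (orderOf a / 2)) = 2 := orderOf_pow_orderOf_div (orderOf_pos a).ne' h2
  exact hk1 (B.toHyp.inverted_eq_one ht.order hk.2 (odd_of_mem_D ht (J_mem_D ht hk)) hz
    (hc.pow_left _))

theorem exists_fixed (ht : B.Out t) {c : G} (hc : c ∈ B.C)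
    (hfix : ∀ k ∈ K ht, k * c * k⁻¹ * c⁻¹ ∈ B.P) :
    ∃ e, e ∈ B.D t ∧ e ∈ B.C ∧ (∀ k ∈ K ht, Commute e k) ∧ c⁻¹ * e ∈ B.P := by
  obtain ⟨k₀, hk₀, hk₀1⟩ := K_nontrivial ht
  have hcP : ∀ p ∈ B.P, c * p * c⁻¹ ∈ B.P := fun p hp => B.hP.normal c hc p hp
  have hcP' : ∀ p ∈ B.P, c⁻¹ * p * c ∈ B.P := fun p hp => by
    simpa using B.hP.normal c⁻¹ (inv_mem hc) p hp
  have hy : ∀ k ∈ K ht, ∀ p ∈ B.P, c⁻¹ * (k * (c * p) * k⁻¹) ∈ B.P := by
    intro k hk p hp
    have : c⁻¹ * (k * (c * p) * k⁻¹) = (c⁻¹ * (k * c * k⁻¹ * c⁻¹) * c) * (k * p * k⁻¹) := by group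
    rw [this]
    exact mul_mem (hcP' _ (hfix k hk)) (B.conj_P_mem hk.1 hp)
  have huniq : ∀ p ∈ B.P, ∀ p' ∈ B.P,
      Commute ((c * p') * (c * p)⁻¹) k₀ → p' = p := by
    intro p hp p' hp' hcm
    have h1 : (c * p') * (c * p)⁻¹ ∈ B.P := by
      rw [show (c * p') * (c * p)⁻¹ = c * (p' * p⁻¹) * c⁻¹ by group]
      exact hcP _ (mul_mem hp' (inv_mem hp))
    exact mul_left_cancel (mul_inv_eq_one.1 (fpf_P ht h1 hk₀ hk₀1 hcm))
  let f : B.P → B.P := fun p => ⟨(c * p)⁻¹ * (k₀ * (c * p) * k₀⁻¹), by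
    have := mul_mem (inv_mem p.2) (hy k₀ hk₀ p p.2)
    rw [mul_inv_rev, mul_assoc]; exact this⟩
  have hf : Function.Injective f := by
    intro p p' e
    have e' : (c * p : G)⁻¹ * (k₀ * (c * p) * k₀⁻¹) = (c * p' : G)⁻¹ * (k₀ * (c * p') * k₀⁻¹) :=
      congrArg Subtype.val e
    refine Subtype.ext (huniq p p.2 p' p'.2 ?_).symm
    show (c * p' : G) * (c * p : G)⁻¹ * k₀ = k₀ * ((c * p') * (c * p)⁻¹)
    calc (c * p' : G) * (c * p : G)⁻¹ * k₀
        = (c * p') * ((c * p : G)⁻¹ * (k₀ * (c * p) * k₀⁻¹)) * k₀ * (c * p : G)⁻¹ := by group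
      _ = (c * p') * ((c * p' : G)⁻¹ * (k₀ * (c * p') * k₀⁻¹)) * k₀ * (c * p : G)⁻¹ := by rw [e']
      _ = k₀ * ((c * p') * (c * p)⁻¹) := by group
  obtain ⟨⟨p, hp⟩, hfp⟩ := (Finite.injective_iff_surjective.1 hf) 1
  have hy0 : k₀ * (c * p) * k₀⁻¹ = c * p := by
    have := congrArg Subtype.val hfp
    simp only [f, OneMemClass.coe_one] at this
    exact (inv_mul_eq_one.1 this).symm
  have hall : ∀ k ∈ K ht, Commute (c * p) k := by
    intro k hk
    have hk0 : Commute k k₀ := J_commute ht hk hk₀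
    set p' := c⁻¹ * (k * (c * p) * k⁻¹) with hp'
    have e1 : c * p' = k * (c * p) * k⁻¹ := by rw [hp']; group
    have h0 : Commute (c * p) k₀ := (mul_inv_eq_iff_eq_mul.1 hy0).symm
    have e2 : Commute (k * (c * p) * k⁻¹) k₀ :=
      (hk0.mul_left h0).mul_left hk0.inv_left
    have := huniq p hp p' (hy k hk p hp) (by rw [e1]; exact e2.mul_left h0.inv_left)
    have e3 : k * (c * p) * k⁻¹ = c * p := by rw [← e1, this]
    exact (mul_inv_eq_iff_eq_mul.1 e3).symm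
  have hC : c * p ∈ B.C := mul_mem hc (B.hP.le hp)
  refine ⟨c * p, (mem_D ht).2 ⟨B.C_le_M hC, cent_K_le ht fun k hk => ?_⟩, hC, hall, by simpa using hp⟩
  have e : t * k⁻¹ * t = k := by
    have := inv_mem hk
    rw [show t * k⁻¹ * t = (k⁻¹)⁻¹ from this.2, inv_inv]
  have := (hall k⁻¹ (inv_mem hk)).map (MulAut.conj t).toMonoidHom
  simpa [inv_eq_self ht.order, e] using this

/-- `C / P`. -/
abbrev CQ (B : Base G q n) : Type u := B.C ⧸ B.P.subgroupOf B.C

instance P_normal : (B.P.subgroupOf B.C).Normal :=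
  ⟨fun p hp g => Subgroup.mem_subgroupOf.2 (B.hP.normal g g.2 p (Subgroup.mem_subgroupOf.1 hp))⟩

instance instCommGroupCQ : CommGroup B.CQ :=
  { (inferInstance : Group (B.C ⧸ B.P.subgroupOf B.C)) with
    mul_comm := by
      intro a b
      induction a using QuotientGroup.induction_on with | H a => ?_
      induction b using QuotientGroup.induction_on with | H b => ?_
      rw [← QuotientGroup.mk_mul, ← QuotientGroup.mk_mul, QuotientGroup.eq, Subgroup.mem_subgroupOf]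
      have := B.hP.comm (b⁻¹ : B.C) (b⁻¹ : B.C).2 (a⁻¹ : B.C) (a⁻¹ : B.C).2
      simpa [mul_assoc] using this }

/-- Conjugation by an element of `M` on `C`. -/
def conjC {k : G} (hk : k ∈ B.M) : B.C →* B.C where
  toFun c := ⟨k * c * k⁻¹, B.conj_C_mem hk c.2⟩
  map_one' := Subtype.ext (by simp)
  map_mul' a b := Subtype.ext (by simp [mul_assoc])

/-- The norm map of `K` on `C / P`. -/
noncomputable def norm (ht : B.Out t) : B.C →* B.CQ :=
  letI := Fintype.ofFinite (K ht)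
  ∏ k : K ht, (QuotientGroup.mk' (B.P.subgroupOf B.C)).comp (conjC (K_le_M ht k.2))

theorem norm_apply (ht : B.Out t) (c : B.C) [Fintype (K ht)] :
    norm ht c = ∏ k : K ht, (conjC (K_le_M ht k.2) c : B.CQ) := by
  rw [norm, MonoidHom.finsetProd_apply]
  refine Finset.prod_congr ?_ fun _ _ => rfl
  ext; simp

/-- The complement. -/
noncomputable def Q (ht : B.Out t) : Subgroup G := (norm ht).ker.map B.C.subtype

theorem mem_Q (ht : B.Out t) {g : G} : g ∈ Q ht ↔ ∃ h : g ∈ B.C, norm ht ⟨g, h⟩ = 1 := by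
  constructor
  · rintro ⟨c, hc, rfl⟩; exact ⟨c.2, hc⟩
  · rintro ⟨h, hn⟩; exact ⟨⟨g, h⟩, hn, rfl⟩

theorem Q_le_C (ht : B.Out t) : Q ht ≤ B.C := fun _ hg => ((mem_Q ht).1 hg).1

theorem P_le_Q (ht : B.Out t) : B.P ≤ Q ht := by
  intro p hp
  letI := Fintype.ofFinite (K ht)
  refine (mem_Q ht).2 ⟨B.hP.le hp, ?_⟩
  rw [norm_apply]
  refine Finset.prod_eq_one fun k _ => (QuotientGroup.eq_one_iff _).2 (Subgroup.mem_subgroupOf.2 ?_)
  exact B.conj_P_mem (K_le_M ht k.2) hp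

theorem norm_conj (ht : B.Out t) {d : G} (hd : d ∈ K ht) (c : B.C) :
    norm ht (conjC (K_le_M ht hd) c) = norm ht c := by
  letI := Fintype.ofFinite (K ht)
  rw [norm_apply, norm_apply]
  refine Fintype.prod_equiv (Equiv.mulRight ⟨d, hd⟩) _ _ fun k => ?_
  refine congrArg QuotientGroup.mk (Subtype.ext ?_)
  simp [conjC, mul_assoc]

theorem norm_fixed (ht : B.Out t) {d : G} (hd : d ∈ K ht) (c y : B.C)
    (hy : (y : B.CQ) = norm ht c) : (conjC (K_le_M ht hd) y : B.CQ) = y := by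
  letI := Fintype.ofFinite (K ht)
  let φ : B.CQ →* B.CQ := QuotientGroup.map _ _ (conjC (K_le_M ht hd)) (fun p hp => by
    exact Subgroup.mem_subgroupOf.2 (B.conj_P_mem (K_le_M ht hd) (Subgroup.mem_subgroupOf.1 hp)))
  have h1 : (conjC (K_le_M ht hd) y : B.CQ) = φ y := rfl
  rw [h1, hy, norm_apply, map_prod]
  refine Fintype.prod_equiv (Equiv.mulLeft ⟨d, hd⟩) _ _ fun k => ?_
  show ((conjC (K_le_M ht hd) (conjC (K_le_M ht k.2) c) : B.C) : B.CQ) = _
  refine congrArg QuotientGroup.mk (Subtype.ext ?_)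
  simp [conjC, mul_assoc]

theorem norm_of_commute (ht : B.Out t) {e : G} (he : e ∈ B.C) (h : ∀ k ∈ K ht, Commute e k) :
    norm ht ⟨e, he⟩ = ((⟨e, he⟩ : B.C) : B.CQ) ^ (q - 1) := by
  letI := Fintype.ofFinite (K ht)
  rw [norm_apply, ← card_K ht, Nat.card_eq_fintype_card, ← Finset.card_univ, ← Finset.prod_const]
  refine Finset.prod_congr rfl fun k _ => congrArg QuotientGroup.mk (Subtype.ext ?_)
  show (k : G) * e * (k : G)⁻¹ = e
  rw [← (h k k.2).eq, mul_inv_cancel_right]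

theorem Q_inter_D (ht : B.Out t) {e : G} (hQ : e ∈ Q ht) (hD : e ∈ B.D t) : e = 1 := by
  obtain ⟨heC, hn⟩ := (mem_Q ht).1 hQ
  have hcom : ∀ k ∈ K ht, Commute e k := fun k hk => (commute_J ht hk hD heC).symm
  rw [norm_of_commute ht heC hcom, ← QuotientGroup.mk_pow, QuotientGroup.eq_one_iff,
    Subgroup.mem_subgroupOf] at hn
  have h1 : e ^ (q - 1) = 1 := P_inter_D ht (by simpa using hn) (pow_mem hD _)
  exact eq_one_of_pows B.toHyp.coprime_pm h1 (pow_q_add_one heC (odd_of_mem_D ht hD))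

theorem exists_QE (ht : B.Out t) {c : G} (hc : c ∈ B.C) :
    ∃ e, e ∈ B.D t ∧ e ∈ B.C ∧ c * e⁻¹ ∈ Q ht := by
  obtain ⟨y, hy⟩ := QuotientGroup.mk_surjective (norm ht ⟨c, hc⟩)
  obtain ⟨e, heD, heC, hek, hey⟩ := exists_fixed ht (c := (y : G)) y.2 (fun k hk => by
    have h := QuotientGroup.eq.1 (norm_fixed ht hk ⟨c, hc⟩ y hy)
    rw [Subgroup.mem_subgroupOf] at h
    have h' := inv_mem (B.hP.normal _ y.2 _ h)
    simpa [conjC, mul_assoc] using h')
  obtain ⟨m, hm⟩ := exists_pow_eq_self_of_coprime (x := e) (n := q - 1)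
    (Nat.Coprime.coprime_dvd_right
      (orderOf_dvd_of_pow_eq_one (pow_q_add_one heC (odd_of_mem_D ht heD))) B.toHyp.coprime_pm)
  refine ⟨e ^ m, pow_mem heD _, pow_mem heC _, (mem_Q ht).2 ⟨mul_mem hc (inv_mem (pow_mem heC _)), ?_⟩⟩
  have hn : norm ht ⟨e ^ m, pow_mem heC m⟩ = norm ht ⟨c, hc⟩ := by
    rw [norm_of_commute ht _ (fun k hk => (hek k hk).pow_left _), ← QuotientGroup.mk_pow, ← hy]
    refine (QuotientGroup.eq.2 (Subgroup.mem_subgroupOf.2 ?_)).symm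
    have e1 : (e ^ m) ^ (q - 1) = e := by rw [← pow_mul, mul_comm, pow_mul]; exact hm
    simpa [e1] using hey
  have : (⟨c * (e ^ m)⁻¹, mul_mem hc (inv_mem (pow_mem heC _))⟩ : B.C) =
      ⟨c, hc⟩ * (⟨e ^ m, pow_mem heC m⟩ : B.C)⁻¹ := rfl
  rw [this, map_mul, map_inv, hn, mul_inv_cancel]

theorem exists_QD (ht : B.Out t) {g : G} (hg : g ∈ B.M) : ∃ a ∈ Q ht, a⁻¹ * g ∈ B.D t := by
  obtain ⟨d, hd, hC⟩ := exists_J ht hg
  obtain ⟨e, heD, heC, hQ⟩ := exists_QE ht hC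
  obtain ⟨hc', hn⟩ := (mem_Q ht).1 hQ
  refine ⟨d * (d⁻¹ * g * e⁻¹) * d⁻¹, (mem_Q ht).2 ⟨B.conj_C_mem hd.1 hc', ?_⟩, ?_⟩
  · exact (norm_conj ht (d := d) hd ⟨_, hc'⟩).trans hn
  · have : (d * (d⁻¹ * g * e⁻¹) * d⁻¹)⁻¹ * g = d * e := by group
    rw [this]
    exact mul_mem (J_mem_D ht hd) heD

theorem Q_conj (ht : B.Out t) {g a : G} (hg : g ∈ B.M) (ha : a ∈ Q ht) :
    g * a * g⁻¹ ∈ Q ht := by
  obtain ⟨d, hd, hC⟩ := exists_J ht hg
  obtain ⟨haC, hn⟩ := (mem_Q ht).1 ha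
  have h1 : d⁻¹ * g * a * (d⁻¹ * g)⁻¹ ∈ B.C := mul_mem (mul_mem hC haC) (inv_mem hC)
  have e : g * a * g⁻¹ = d * (d⁻¹ * g * a * (d⁻¹ * g)⁻¹) * d⁻¹ := by group
  refine (mem_Q ht).2 ⟨B.conj_C_mem hg haC, ?_⟩
  have e' : (⟨g * a * g⁻¹, B.conj_C_mem hg haC⟩ : B.C) =
      conjC (K_le_M ht (show d ∈ K ht from hd))
        (⟨d⁻¹ * g, hC⟩ * ⟨a, haC⟩ * (⟨d⁻¹ * g, hC⟩ : B.C)⁻¹) := Subtype.ext e
  rw [e', norm_conj ht (show d ∈ K ht from hd), map_mul, map_mul, hn, mul_one, map_inv, mul_inv_cancel]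

/-- The split rank-one set-up. -/
theorem isRankOneSetup (ht : B.Out t) :
    Cfsg.IsRankOneSetup G (G ⧸ B.M) ((1 : G) : G ⧸ B.M) t (Q ht) where
  two_transitive := two_transitive
  mul_self := mul_self_inv ht.order
  ne_one := (inv_iff.1 ht.order).1
  not_mem := by rw [B.stabilizer_base]; exact ht.not_mem
  le := by rw [B.stabilizer_base]; exact (Q_le_C ht).trans B.C_le_M
  conj_mem := by
    rw [B.stabilizer_base]
    exact fun h hh x hx => Q_conj ht hh hx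
  inf_eq_bot := by
    refine (Subgroup.eq_bot_iff_forall _).2 fun e he => Q_inter_D ht he.1 ?_
    rw [← two_point ht]
    exact ⟨by rw [B.stabilizer_base]; exact B.C_le_M (Q_le_C ht he.1), he.2⟩
  sup_eq := by
    rw [two_point ht, B.stabilizer_base]
    refine le_antisymm (sup_le ((Q_le_C ht).trans B.C_le_M) inf_le_left) fun g hg => ?_
    obtain ⟨a, ha, hd⟩ := exists_QD ht hg
    rw [show g = a * (a⁻¹ * g) by group]
    exact mul_mem (Subgroup.mem_sup_left ha) (Subgroup.mem_sup_right hd)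
  even_card := by
    refine even_iff_two_dvd.2 (dvd_trans ?_ (Subgroup.card_dvd_of_le (P_le_Q ht)))
    rw [B.hP.card_P]
    exact dvd_pow (even_iff_two_dvd.1 B.toHyp.even_q) (by norm_num)
  odd_card := by rw [two_point ht]; exact odd_D ht

theorem faithful : FaithfulSMul G (G ⧸ B.M) := by
  constructor
  intro g g' hgg
  obtain ⟨g₀, hg₀⟩ := B.exists_not_mem
  obtain ⟨t, ht, -⟩ := exists_out_of_not_mem hg₀
  have key : ∀ a : G, (∀ b : G ⧸ B.M, a • b = b) → ∀ g : G, g⁻¹ * a * g ∈ B.M := by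
    intro a ha g
    have := ha (g : G ⧸ B.M)
    rw [MulAction.Quotient.smul_coe, smul_eq_mul, QuotientGroup.eq] at this
    simpa [mul_assoc] using inv_mem this
  set a := g⁻¹ * g' with ha
  have hfix : ∀ b : G ⧸ B.M, a • b = b := fun b => by
    rw [ha, mul_smul, ← hgg, inv_smul_smul]
  have haD : ∀ c : G, (∀ b : G ⧸ B.M, c • b = b) → c ∈ B.D t := fun c hc => by
    refine (mem_D ht).2 ⟨by simpa using key c hc 1, ?_⟩
    simpa [inv_eq_self ht.order] using key c hc t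
  have hD := haD a hfix
  have hM : a ∈ B.M := ((mem_D ht).1 hD).1
  have hcom : ∀ p ∈ B.P, Commute a p := by
    intro p hp
    have h1 : a * p * a⁻¹ * p⁻¹ ∈ B.P := mul_mem (B.conj_P_mem hM hp) (inv_mem hp)
    have h2 : p * a⁻¹ * p⁻¹ ∈ B.D t := haD _ fun b => by
      rw [mul_smul, mul_smul, inv_smul_eq_iff.2 (hfix (p⁻¹ • b)).symm, smul_inv_smul]
    have h3 := P_inter_D ht h1 (by rw [mul_assoc, mul_assoc, ← mul_assoc p]; exact mul_mem hD h2)
    rw [mul_inv_eq_one, mul_inv_eq_iff_eq_mul] at h3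
    exact h3
  have haC : a ∈ B.C :=
    Subgroup.mem_centralizer_singleton_iff.2 (hcom B.x B.x_mem_P).eq
  have ha1 : a = 1 := P_inter_D ht (B.hP.self_cent a haC hcom) hD
  exact inv_mul_eq_one.1 ha1

variable (B) in
include B in
theorem exists_commuting : ∃ x y : G, x ≠ 1 ∧ y ≠ 1 ∧ x ≠ y ∧ x * x = 1 ∧ y * y = 1 ∧
    x * y = y * x := by
  have hc : 1 < Nat.card {z : G // z ∈ B.C ∧ orderOf z = 2} := by
    rw [show Nat.card {z : G // z ∈ B.C ∧ orderOf z = 2} = q - 1 from B.hP.count]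
    have := B.two_lt; omega
  haveI := Finite.one_lt_card_iff_nontrivial.1 hc
  obtain ⟨⟨z, hz, hz2⟩, hne⟩ := exists_ne (⟨B.x, Subgroup.mem_centralizer_singleton_iff.2 rfl,
    B.hx⟩ : {z : G // z ∈ B.C ∧ orderOf z = 2})
  exact ⟨B.x, z, (inv_iff.1 B.hx).1, (inv_iff.1 hz2).1, fun e => hne (Subtype.ext e.symm),
    mul_self_inv B.hx, mul_self_inv hz2, (Subgroup.mem_centralizer_singleton_iff.1 hz).symm⟩

/-- The order of `G`. -/
theorem exists_card (ht : B.Out t) : ∃ m, m ∣ q + 1 ∧ 0 < m ∧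
    Nat.card G = (1 + q ^ 3 * m) * ((q - 1) * (q ^ 3 * (q + 1))) := by
  obtain ⟨m, hm⟩ : q ^ 3 ∣ Nat.card (Q ht) := by
    rw [← B.hP.card_P]; exact Subgroup.card_dvd_of_le (P_le_Q ht)
  have hq : 0 < q ^ 3 := pow_pos (by have := B.two_lt; omega) 3
  refine ⟨m, ?_, ?_, ?_⟩
  · have := Subgroup.card_dvd_of_le (Q_le_C ht)
    rw [hm, B.hP.card_C] at this
    exact Nat.dvd_of_mul_dvd_mul_left hq this
  · rcases m.eq_zero_or_pos with h0 | h0
    · rw [h0, mul_zero] at hm; exact absurd hm Nat.card_pos.ne'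
    · exact h0
  classical
  rw [← B.M.index_mul_card, B.card_M, ← hm, Subgroup.index]
  congr 1
  have e : Option (Q ht) ≃ G ⧸ B.M := by
    refine Equiv.ofBijective (fun o => o.elim ((1 : G) : G ⧸ B.M) fun a => (((a : G) * t : G) : G ⧸ B.M))
      ⟨?_, ?_⟩
    · rintro (_ | a) (_ | b) h
      · rfl
      · exfalso
        have := QuotientGroup.eq.1 h
        rw [inv_one, one_mul] at this
        exact ht.not_mem (by simpa using mul_mem (inv_mem (B.C_le_M (Q_le_C ht b.2))) this)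
      · exfalso
        have := QuotientGroup.eq.1 h.symm
        rw [inv_one, one_mul] at this
        exact ht.not_mem (by simpa using mul_mem (inv_mem (B.C_le_M (Q_le_C ht a.2))) this)
      · have := QuotientGroup.eq.1 h
        refine congrArg some (Subtype.ext (inv_mul_eq_one.1 (Q_inter_D ht
          (mul_mem (inv_mem a.2) b.2) ((mem_D ht).2 ⟨B.C_le_M (Q_le_C ht
            (mul_mem (inv_mem a.2) b.2)), ?_⟩))))
        simpa [mul_assoc, inv_eq_self ht.order] using this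
    · intro b
      induction b using QuotientGroup.induction_on with | H g => ?_
      by_cases hg : g ∈ B.M
      · exact ⟨none, QuotientGroup.eq.2 (by simpa using hg)⟩
      · obtain ⟨v, hv, ev⟩ := exists_out_of_not_mem hg
        obtain ⟨mm, hmm, e⟩ := exists_move ht hv
        obtain ⟨a, ha, hd⟩ := exists_QD ht hmm
        refine ⟨some ⟨a, ha⟩, Eq.trans ?_ (e.trans ev)⟩
        refine QuotientGroup.eq.2 ?_
        have : (a * t)⁻¹ * (mm * t) = t⁻¹ * (a⁻¹ * mm) * t := by group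
        rw [this, inv_eq_self ht.order]
        exact ((mem_D ht).1 hd).2
  rw [← Nat.card_congr e, Finite.card_option, add_comm]

end Base

end Cfsg.Agent.Lib.UThreeTwoRecog26
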