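import Cfsg.Agent.Lib.LinClasses.UnitaryThree
import Cfsg.Agent.Lib.MinDegree.UnitaryBase
import Cfsg.Agent.Lib.UThreeTwoRecog26.Basic

/-!
The stabiliser in `GU₃(q)`, `q` even, of an isotropic vector, in coordinates.
-/

set_option autoImplicit false
set_option linter.unusedSectionVars false
set_option linter.style.haveILetI false

namespace Cfsg.Agent.Lib.UThreeTwoRecog26

open Matrix

variable {F : Type*} [Field F] [Fintype F] [CharP F 2] {q : ℕ}

local notation "B₃" => Cfsg.hermForm 3 F q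

/-- The isotropic vector `(1, 1, 0)`. -/
def eVec (F : Type*) [Field F] : Fin 3 → F := ![1, 1, 0]

/-- The stabiliser of the isotropic vector. -/
def stab (F : Type*) [Field F] (q : ℕ) : Subgroup ↥(Cfsg.GU 3 F q) where
  carrier := {g | g.1.1 *ᵥ eVec F = eVec F}
  one_mem' := by simp
  mul_mem' {a b} ha hb := by
    show (a.1.1 * b.1.1) *ᵥ eVec F = eVec F
    rw [← Matrix.mulVec_mulVec, hb, ha]
  inv_mem' {a} ha := by
    show (a.1⁻¹).1 *ᵥ eVec F = eVec F
    have h : a.1.1 *ᵥ eVec F = eVec F := ha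
    conv_lhs => rw [← h]
    rw [Matrix.mulVec_mulVec, ← Units.val_mul, inv_mul_cancel, Units.val_one, Matrix.one_mulVec]

/-- The entry map `μ`. -/
def muC (g : ↥(stab F q)) : F := g.1.1.1 2 2
/-- The entry map `b`. -/
def bC (g : ↥(stab F q)) : F := g.1.1.1 0 2
/-- The entry map `γ`. -/
def cC (g : ↥(stab F q)) : F := g.1.1.1 1 0

/-- The matrix with given coordinates. -/
def mat (q : ℕ) (μ b c : F) : Matrix (Fin 3) (Fin 3) F :=
  !![1 + c, c, b; c, 1 + c, b; b ^ q * μ, b ^ q * μ, μ]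

theorem mat_mulVec_eVec (μ b c : F) : mat q μ b c *ᵥ eVec F = eVec F := by
  funext i
  fin_cases i
  · simp [mat, eVec, vecHead, vecTail, add_assoc, CharTwo.add_self_eq_zero]
  · simp [mat, eVec, vecHead, vecTail]
    linear_combination CharTwo.add_self_eq_zero c
  · simp [mat, eVec, vecHead, vecTail, CharTwo.add_self_eq_zero]

theorem det_mat (μ b c : F) : (mat q μ b c).det = μ := by
  simp [mat, Matrix.det_fin_three]
  linear_combination (c * μ - b * (b ^ q * μ)) * (CharTwo.two_eq_zero (R := F))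

variable (hF : Fintype.card F = q ^ 2)
include hF

theorem qadd (a b : F) : (a + b) ^ q = a ^ q + b ^ q := by
  rw [← Forms.qPowHom_apply hF, ← Forms.qPowHom_apply hF, ← Forms.qPowHom_apply hF, map_add]

theorem qne : q ≠ 0 := by have := Forms.two_le_of_card_sq hF; omega

/-- The coordinates satisfy the defining equations. -/
theorem coords (g : ↥(stab F q)) :
    muC g ^ (q + 1) = 1 ∧ cC g + cC g ^ q = bC g ^ (q + 1) ∧
      g.1.1.1 = mat q (muC g) (bC g) (cC g) := by
  have hq := qne hF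
  set A := g.1.1.1 with hA
  have he : A *ᵥ eVec F = eVec F := g.2
  have hcol : ∀ i j : Fin 3,
      A 0 i * A 0 j ^ q + A 1 i * A 1 j ^ q + A 2 i * A 2 j ^ q = if i = j then 1 else 0 := by
    intro i j
    have h : B₃ (A *ᵥ Pi.single i 1) (A *ᵥ Pi.single j 1) =
        B₃ (Pi.single i 1 : Fin 3 → F) (Pi.single j 1) := g.1.2 (Pi.single i 1) (Pi.single j 1)
    rw [Matrix.mulVec_single_one, Matrix.mulVec_single_one] at h
    simp only [Cfsg.hermForm, Fin.sum_univ_three, Matrix.col_apply] at h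
    rw [h]
    fin_cases i <;> fin_cases j <;> simp [hq]
  have e0 : A 0 0 + A 0 1 = 1 := by
    have := congrFun he 0
    simpa [eVec, Matrix.mulVec, dotProduct, Fin.sum_univ_three] using this
  have e1 : A 1 0 + A 1 1 = 1 := by
    have := congrFun he 1
    simpa [eVec, Matrix.mulVec, dotProduct, Fin.sum_univ_three] using this
  have e2 : A 2 0 + A 2 1 = 0 := by
    have := congrFun he 2
    simpa [eVec, Matrix.mulVec, dotProduct, Fin.sum_univ_three] using this
  have e21 : A 2 1 = A 2 0 := (CharTwo.add_eq_zero.1 e2).symm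
  -- the product of the image of a vector with `e`
  have hBe : ∀ i : Fin 3, A 0 i + A 1 i = eVec F i := by
    intro i
    have h : B₃ (A *ᵥ Pi.single i 1) (A *ᵥ eVec F) =
        B₃ (Pi.single i 1 : Fin 3 → F) (eVec F) := g.1.2 (Pi.single i 1) (eVec F)
    rw [he, Matrix.mulVec_single_one] at h
    simp only [Cfsg.hermForm, Fin.sum_univ_three, Matrix.col_apply, eVec] at h
    fin_cases i <;> simpa [hq, eVec] using h
  have f0 := hBe 0
  have f2 := hBe 2
  simp [eVec] at f0 f2
  have e12 : A 1 2 = A 0 2 := (CharTwo.add_eq_zero.1 f2).symm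
  have e00 : A 0 0 = 1 + A 1 0 := CharTwo.add_eq_iff_eq_add.1 f0
  have e01 : A 0 1 = A 1 0 := by
    rw [e00] at e0; linear_combination e0 - CharTwo.add_self_eq_zero (A 1 0)
  have e11 : A 1 1 = 1 + A 1 0 := by linear_combination e1 - CharTwo.add_self_eq_zero (A 1 0)
  have h22 := hcol 2 2
  have h02 := hcol 0 2
  have h00 := hcol 0 0
  simp only [e12, e00, if_true, show ¬ ((0 : Fin 3) = 2) by decide, if_false, qadd hF, one_pow]
    at h22 h02 h00
  have hμ : A 2 2 ^ (q + 1) = 1 := by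
    rw [pow_succ']
    linear_combination h22 - CharTwo.add_self_eq_zero (A 0 2 * A 0 2 ^ q)
  have h20 : A 2 0 = A 0 2 ^ q * A 2 2 := by
    have h : A 2 0 * A 2 2 ^ q + A 0 2 ^ q = 0 := by
      linear_combination h02 - CharTwo.add_self_eq_zero (A 1 0 * A 0 2 ^ q)
    have h' : A 2 0 * (A 2 2 ^ q * A 2 2) + A 0 2 ^ q * A 2 2 = 0 := by linear_combination A 2 2 * h
    rw [← pow_succ, hμ, mul_one] at h'
    exact CharTwo.add_eq_zero.1 h'
  refine ⟨hμ, ?_, ?_⟩
  · show A 1 0 + A 1 0 ^ q = A 0 2 ^ (q + 1)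
    rw [h20, mul_pow, Forms.pow_q_pow_q hF] at h00
    have hμ' : A 2 2 ^ q * A 2 2 = 1 := by rw [← pow_succ, hμ]
    rw [pow_succ]
    linear_combination h00 - CharTwo.add_self_eq_zero (A 1 0 * A 1 0 ^ q) -
      CharTwo.add_self_eq_zero (A 0 2 ^ q * A 0 2) - (A 0 2 ^ q * A 0 2) * hμ'
  · show A = mat q (A 2 2) (A 0 2) (A 1 0)
    ext i j
    fin_cases i <;> fin_cases j <;> simp [mat, e00, e01, e11, e12, e21, h20]

theorem exists_stab {μ b c : F} (hμ : μ ^ (q + 1) = 1) (hc : c + c ^ q = b ^ (q + 1)) :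
    ∃ g : ↥(stab F q), muC g = μ ∧ bC g = b ∧ cC g = c := by
  have hμ0 : μ ≠ 0 := fun h0 => by
    rw [h0, zero_pow (Nat.succ_ne_zero q)] at hμ; exact zero_ne_one hμ
  let M : GL (Fin 3) F := Matrix.GeneralLinearGroup.mkOfDetNeZero (mat q μ b c)
    (by rw [det_mat]; exact hμ0)
  have hμ' : μ * μ ^ q = 1 := by rw [← pow_succ', hμ]
  rw [pow_succ] at hc
  have two := CharTwo.two_eq_zero (R := F)
  have hM : M ∈ Cfsg.GU 3 F q := by
    refine LinClasses.UnitaryThree.mem_GU_of_cols hF M fun i j => ?_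
    show Forms.hermSesq hF 3 (fun k => mat q μ b c k i) (fun k => mat q μ b c k j) = _
    rw [Forms.hermSesq_apply hF]
    fin_cases i <;> fin_cases j <;>
      simp [Cfsg.hermForm, Fin.sum_univ_three, mat, qadd hF, mul_pow, Forms.pow_q_pow_q hF] <;>
      grind
  refine ⟨⟨⟨M, hM⟩, ?_⟩, ?_, ?_, ?_⟩
  · exact mat_mulVec_eVec μ b c
  · simp [muC, M, mat]
  · simp [bC, M, mat]
  · simp [cC, M, mat]

theorem stab_ext {g k : ↥(stab F q)} (h1 : muC g = muC k) (h2 : bC g = bC k) (h3 : cC g = cC k) :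
    g = k := by
  refine Subtype.ext (Subtype.ext (Units.ext ?_))
  rw [(coords hF g).2.2, (coords hF k).2.2, h1, h2, h3]

theorem mul_coords (g k : ↥(stab F q)) :
    muC (g * k) = muC g * muC k ∧ bC (g * k) = bC k + bC g * muC k ∧
      cC (g * k) = cC g + cC k + bC g * bC k ^ q * muC k := by
  have e : (g * k).1.1.1 = mat q (muC g) (bC g) (cC g) * mat q (muC k) (bC k) (cC k) := by
    show g.1.1.1 * k.1.1.1 = _
    rw [(coords hF g).2.2, (coords hF k).2.2]
  have two := CharTwo.two_eq_zero (R := F)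
  refine ⟨?_, ?_, ?_⟩
  · show (g * k).1.1.1 2 2 = _
    rw [e]
    simp [mat, Matrix.mul_apply, Fin.sum_univ_three]
    linear_combination (bC g ^ q * muC g * bC k) * two
  · show (g * k).1.1.1 0 2 = _
    rw [e]
    simp [mat, Matrix.mul_apply, Fin.sum_univ_three]
    linear_combination (cC g * bC k) * two
  · show (g * k).1.1.1 1 0 = _
    rw [e]
    simp [mat, Matrix.mul_apply, Fin.sum_univ_three]
    linear_combination (cC g * cC k) * two

theorem one_coords : muC (1 : ↥(stab F q)) = 1 ∧ bC (1 : ↥(stab F q)) = 0 ∧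
    cC (1 : ↥(stab F q)) = 0 := by
  simp [muC, bC, cC]

/-- The character `μ`. -/
def muHom : ↥(stab F q) →* F where
  toFun := muC
  map_one' := (one_coords hF).1
  map_mul' g k := (mul_coords hF g k).1

end Cfsg.Agent.Lib.UThreeTwoRecog26
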