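import Cfsg.Agent.Lib.UThreeTwoRecog26.Model

/-!
Injective endomorphisms of the stabiliser act semilinearly on the unipotent subgroup.
-/

set_option autoImplicit false
set_option linter.unusedSectionVars false
set_option linter.style.haveILetI false

namespace Cfsg.Agent.Lib.UThreeTwoRecog26

variable {F : Type*} [Field F] [Fintype F] [CharP F 2] {q : ℕ}

/-- A map agreeing with another multiplicative one up to a scalar shift is the identity. -/
theorem eq_id_of_shift {a a' : F} (ha : a ≠ 0) {σ σ' : F → F}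
    (hs : ∀ x y, σ (x * y) = σ x * σ y) (hs' : ∀ x y, σ' (x * y) = σ' x * σ' y)
    (h1 : σ 1 = 1) (h1' : σ' 1 = 1)
    {S : Set F} (hS1 : (1 : F) ∈ S) (hmul : ∀ x ∈ S, ∀ y ∈ S, x * y ∈ S)
    (h : ∀ x ∈ S, a * σ x + x = a' * σ' x) : ∀ x ∈ S, σ x = x := by
  intro y hy
  by_contra hne
  have key : ∀ x ∈ S, σ' x = x := by
    intro x hx
    have e1 := h _ (hmul x hx y hy)
    have ey := h y hy
    have ex := h x hx
    have e0 := h 1 hS1
    rw [h1, h1'] at e0
    rw [hs, hs'] at e1
    have a1 : a * σ y * (σ x - σ' x) = y * (σ' x - x) := by linear_combination e1 - σ' x * ey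
    have a2 : a * (σ x - σ' x) = σ' x - x := by linear_combination ex - σ' x * e0
    have a3 : (σ' x - x) * (σ y - y) = 0 := by linear_combination a1 - σ y * a2
    rcases mul_eq_zero.1 a3 with h3 | h3
    · exact sub_eq_zero.1 h3
    · exact absurd (sub_eq_zero.1 h3) hne
  refine hne ?_
  have e0 := h 1 hS1
  have ey := h y hy
  rw [h1, h1'] at e0
  rw [key y hy] at ey
  have : a * (σ y - y) = 0 := by linear_combination ey - y * e0
  rcases mul_eq_zero.1 this with h3 | h3
  · exact absurd h3 ha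
  · exact sub_eq_zero.1 h3

variable (hF : Fintype.card F = q ^ 2)
include hF

theorem inv_coords (g : ↥(stab F q)) :
    muC g⁻¹ = (muC g)⁻¹ ∧ bC g⁻¹ = bC g * (muC g)⁻¹ := by
  obtain ⟨h1, h2, -⟩ := mul_coords hF g g⁻¹
  rw [mul_inv_cancel, (one_coords hF).1] at h1
  rw [mul_inv_cancel, (one_coords hF).2.1] at h2
  have e : muC g⁻¹ = (muC g)⁻¹ := eq_inv_of_mul_eq_one_right h1.symm
  exact ⟨e, by rw [← e]; exact CharTwo.add_eq_zero.1 h2.symm⟩

theorem conj_coords (g p : ↥(stab F q)) (hp : muC p = 1) :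
    muC (g * p * g⁻¹) = 1 ∧ bC (g * p * g⁻¹) = bC p * (muC g)⁻¹ := by
  obtain ⟨i1, i2⟩ := inv_coords hF g
  obtain ⟨a1, a2, -⟩ := mul_coords hF g p
  obtain ⟨b1, b2, -⟩ := mul_coords hF (g * p) g⁻¹
  have hg0 : muC g ≠ 0 := fun e => by
    have h := (coords hF g).1
    rw [e, zero_pow (Nat.succ_ne_zero q)] at h
    exact zero_ne_one h
  refine ⟨by rw [b1, a1, hp, mul_one, i1, mul_inv_cancel₀ hg0], ?_⟩
  rw [b2, a2, i1, i2, hp, mul_one, add_mul, add_left_comm, CharTwo.add_self_eq_zero, add_zero]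

theorem unip_mul {p p' : ↥(stab F q)} (hp : muC p = 1) (hp' : muC p' = 1) :
    muC (p * p') = 1 ∧ bC (p * p') = bC p + bC p' ∧
      cC (p * p') = cC p + cC p' + bC p * bC p' ^ q := by
  obtain ⟨h1, h2, h3⟩ := mul_coords hF p p'
  refine ⟨by rw [h1, hp, hp', mul_one], by rw [h2, hp', mul_one, add_comm], by rw [h3, hp', mul_one]⟩

theorem exists_unip (b : F) : ∃ p : ↥(stab F q), muC p = 1 ∧ bC p = b := by
  obtain ⟨c, hc⟩ := exists_trace hF (norm_fixed_q hF b)
  obtain ⟨p, h1, h2, -⟩ := exists_stab hF (b := b) (one_pow (q + 1)) hc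
  exact ⟨p, h1, h2⟩

theorem square_centre {z : ↥(stab F q)} (h1 : muC z = 1) (h2 : bC z = 0) : z * z = 1 := by
  obtain ⟨a1, a2, a3⟩ := unip_mul hF h1 h1
  refine stab_ext hF (a1.trans (one_coords hF).1.symm) ?_ ?_
  · rw [a2, CharTwo.add_self_eq_zero, (one_coords hF).2.1]
  · rw [a3, h2, CharTwo.add_self_eq_zero, zero_mul, add_zero, (one_coords hF).2.2]

theorem subfield_eq_top_of_lt (R : Subfield F) (h : q < Nat.card R) : R = ⊤ := by
  classical
  haveI := Fintype.ofFinite R
  have hk := Module.natCard_eq_pow_finrank (K := R) (V := F)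
  rw [Nat.card_eq_fintype_card (α := F), hF] at hk
  by_contra hne
  have h2 : 2 ≤ Module.finrank R F := by
    by_contra hlt
    have h1 : Module.finrank R F = 1 := by
      have := Module.finrank_pos (R := R) (M := F); omega
    rw [h1, pow_one, ← hF] at hk
    refine hne (SetLike.coe_injective ?_)
    rw [Subfield.coe_top]
    refine Set.eq_univ_of_forall fun x => ?_
    have hb : Function.Bijective (Subtype.val : R → F) :=
      (Nat.bijective_iff_injective_and_card _).2
        ⟨Subtype.val_injective, hk.symm.trans Nat.card_eq_fintype_card.symm⟩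
    obtain ⟨y, rfl⟩ := hb.2 x
    exact y.2
  have := Nat.pow_le_pow_right (by omega : 0 < Nat.card R) h2
  rw [← hk] at this
  have := Nat.pow_lt_pow_left h two_ne_zero
  omega

/-- Semilinearity. -/
theorem exists_semilinear (θ : ↥(stab F q) →* ↥(stab F q)) (hθ : Function.Injective θ) :
    ∃ (σ : F →+* F) (β : F), β ≠ 0 ∧ (∀ x, muC (θ x) = σ (muC x)) ∧
      ∀ p, muC p = 1 → muC (θ p) = 1 ∧ bC (θ p) = β * σ (bC p) := by
  have hcen : ∀ z, muC z = 1 → bC z = 0 → muC (θ z) = 1 ∧ bC (θ z) = 0 := fun z h1 h2 =>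
    sq_coords hF (θ z) (by rw [← map_mul, square_centre hF h1 h2, map_one])
  have hun : ∀ p, muC p = 1 → muC (θ p) = 1 := by
    intro p hp
    obtain ⟨a1, a2, -⟩ := unip_mul hF hp hp
    have := (hcen _ a1 (by rw [a2, CharTwo.add_self_eq_zero])).1
    rw [map_mul, (mul_coords hF _ _).1] at this
    have h : (muC (θ p) + 1) * (muC (θ p) + 1) = 0 := by
      linear_combination this + (muC (θ p) + 1) * (CharTwo.two_eq_zero (R := F))
    exact CharTwo.add_eq_zero.1 (mul_self_eq_zero.1 h)
  choose P hP1 hP2 using exists_unip hF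
  set β : F → F := fun b => bC (θ (P b)) with hβ
  have hwell : ∀ p, muC p = 1 → bC (θ p) = β (bC p) := by
    intro p hp
    have i1 := inv_coords hF (P (bC p))
    have m1 : muC (P (bC p))⁻¹ = 1 := by rw [i1.1, hP1, inv_one]
    obtain ⟨z1, z2, -⟩ := unip_mul hF m1 hp
    have z2' : bC ((P (bC p))⁻¹ * p) = 0 := by
      rw [z2, i1.2, hP1, inv_one, mul_one, hP2, CharTwo.add_self_eq_zero]
    obtain ⟨w1, w2⟩ := hcen _ z1 z2'
    conv_lhs => rw [show p = P (bC p) * ((P (bC p))⁻¹ * p) by rw [mul_inv_cancel_left], map_mul,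
      (unip_mul hF (hun _ (hP1 _)) w1).2.1, w2, add_zero]
  have hadd : ∀ b b', β (b + b') = β b + β b' := by
    intro b b'
    obtain ⟨a1, a2, -⟩ := unip_mul hF (hP1 b) (hP1 b')
    have := hwell _ a1
    rw [a2, hP2, hP2] at this
    rw [← this, map_mul, (unip_mul hF (hun _ (hP1 b)) (hun _ (hP1 b'))).2.1]
  have hβ0 : ∀ b, β b = 0 → b = 0 := by
    intro b hb
    have h := square_centre hF (hun _ (hP1 b)) hb
    rw [← map_mul] at h
    rw [← hP2 b]
    exact (sq_coords hF _ (hθ (h.trans (map_one θ).symm))).2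
  have hconj : ∀ x b, β (b * (muC x)⁻¹) = β b * (muC (θ x))⁻¹ := by
    intro x b
    obtain ⟨c1, c2⟩ := conj_coords hF x (P b) (hP1 b)
    rw [hP2] at c2
    rw [← c2, ← hwell _ c1, map_mul, map_mul, map_inv, (conj_coords hF _ _ (hun _ (hP1 b))).2]
  have h1 : β 1 ≠ 0 := fun e => one_ne_zero (hβ0 1 e)
  set s : F → F := fun l => β l / β 1 with hs
  have sadd : ∀ a b, s (a + b) = s a + s b := fun a b => by simp only [hs, hadd, add_div]
  have s0 : s 0 = 0 := by
    have := sadd 0 0
    rw [add_zero] at this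
    exact left_eq_add.1 this
  have s1 : s 1 = 1 := div_self h1
  have smu : ∀ x, s (muC x)⁻¹ = (muC (θ x))⁻¹ := fun x => by
    have := hconj x 1
    rw [one_mul] at this
    simp only [hs, this]
    rw [mul_comm, mul_div_assoc, div_self h1, mul_one]
  let S : Submonoid F :=
    { carrier := {l | ∀ y, s (l * y) = s l * s y}
      one_mem' := fun y => by rw [one_mul, s1, one_mul]
      mul_mem' := fun {a b} ha hb y => by rw [mul_assoc, ha, hb, ha b, mul_assoc] }
  let R : Subfield F :=
    { carrier := S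
      one_mem' := S.one_mem
      mul_mem' := fun ha hb => S.mul_mem ha hb
      zero_mem' := fun y => by rw [zero_mul, s0, zero_mul]
      add_mem' := fun {a b} (ha : ∀ y, s (a * y) = s a * s y) (hb : ∀ y, s (b * y) = s b * s y) y => by
        rw [add_mul, sadd, sadd, ha, hb, add_mul]
      neg_mem' := fun {a} ha => by rwa [CharTwo.neg_eq]
      inv_mem' := fun a ha => by
        rcases eq_or_ne a 0 with rfl | h0
        · rwa [inv_zero]
        · rw [show a⁻¹ = a ^ (Fintype.card F - 2) from inv_eq_of_mul_eq_one_right (by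
            rw [← pow_succ', show Fintype.card F - 2 + 1 = Fintype.card F - 1 by
              have := Fintype.one_lt_card (α := F); omega]
            exact FiniteField.pow_card_sub_one_eq_one a h0)]
          exact S.pow_mem ha _ }
  have hU : ∀ u : F, u ^ (q + 1) = 1 → u ∈ R := by
    intro u hu
    have hu0 : u ≠ 0 := fun e => by simp [e] at hu
    obtain ⟨x, hx, -, -⟩ := exists_stab hF (b := (0 : F)) (c := (0 : F))
      (show (u⁻¹) ^ (q + 1) = 1 by rw [inv_pow, hu, inv_one]) (by simp [qne hF])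
    show ∀ y, s (u * y) = s u * s y
    intro y
    have e := hconj x y
    have e' := smu x
    rw [hx, inv_inv] at e e'
    simp only [hs] at e' ⊢
    rw [mul_comm u y, e, e', mul_comm, mul_div_assoc]
  have hRtop : R = ⊤ := by
    refine subfield_eq_top_of_lt hF R ?_
    refine Nat.lt_of_lt_of_le (Nat.lt_succ_self q) ?_
    rw [Nat.succ_eq_add_one, ← Classical.natCard_normOne hF]
    exact Nat.card_le_card_of_injective (fun u => (⟨u.1, hU u.1 u.2⟩ : R))
      fun u v h => by
        simp only [Subtype.mk.injEq] at h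
        exact Subtype.ext h
  have smul : ∀ a b, s (a * b) = s a * s b := fun a b => by
    have : a ∈ R := by rw [hRtop]; trivial
    exact this b
  let σ : F →+* F := { toFun := s, map_one' := s1, map_mul' := smul, map_zero' := s0, map_add' := sadd }
  refine ⟨σ, β 1, h1, fun x => ?_, fun p hp => ⟨hun p hp, ?_⟩⟩
  · have := smu x
    rw [show s (muC x)⁻¹ = (σ (muC x))⁻¹ from map_inv₀ σ _] at this
    exact (inv_injective this).symm
  · rw [hwell p hp]
    show β (bC p) = β 1 * (β (bC p) / β 1)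
    rw [mul_div_cancel₀ _ h1]

/-- The image of a central element. -/
theorem semilinear_centre (θ : ↥(stab F q) →* ↥(stab F q)) {σ : F →+* F} {β : F}
    (h : ∀ p, muC p = 1 → muC (θ p) = 1 ∧ bC (θ p) = β * σ (bC p))
    {b : F} {z : ↥(stab F q)} (h1 : muC z = 1) (h2 : bC z = 0) (h3 : cC z = b ^ (q + 1)) :
    cC (θ z) = β ^ (q + 1) * σ (b ^ (q + 1)) := by
  obtain ⟨p, p1, p2⟩ := exists_unip hF b
  obtain ⟨a1, a2, a3⟩ := unip_mul hF p1 p1
  have e : z = p * p := stab_ext hF (h1.trans a1.symm)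
    (by rw [h2, a2, CharTwo.add_self_eq_zero])
    (by rw [h3, a3, p2, CharTwo.add_self_eq_zero, zero_add, pow_succ'])
  obtain ⟨q1, q2⟩ := h p p1
  rw [e, map_mul, (unip_mul hF q1 q1).2.2, q2, p2, CharTwo.add_self_eq_zero, zero_add, map_pow,
    pow_succ', pow_succ']
  ring

end Cfsg.Agent.Lib.UThreeTwoRecog26
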