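import Cfsg.Agent.Lib.UThreeTwoRecog26.UDetermine

/-!
A group with coordinates is `PGU₃(q)`: every element induces on the isotropic lines the
permutation of a unitary matrix, unique up to scalars.
-/

set_option autoImplicit false
set_option linter.unusedSectionVars false
set_option linter.style.haveILetI false

namespace Cfsg.Agent.Lib.UThreeTwoRecog26.UFrame

open Matrix MulAction

variable {G Ω F : Type*} [Group G] [MulAction G Ω] [Field F] [Fintype F] [CharP F 2] {q : ℕ}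

/-- The vector of the point with coordinates `X`. -/
def vecPt (q : ℕ) (ζ : F) (X : F × F) : Fin 3 → F := ![ζ + X.2, ζ + 1 + X.2, X.1 ^ q]

theorem vecPt_ne (ζ : F) (X : F × F) (s : F) : vecPt q ζ X ≠ s • eVec F := by
  intro h
  have e0 := congrFun h 0
  have e1 := congrFun h 1
  simp [vecPt, eVec] at e0 e1
  exact one_ne_zero (show (1 : F) = 0 by linear_combination e1 - e0)

theorem smul_vecPt {ζ : F} {X Y : F × F} {s : F} (h : vecPt q ζ X = s • vecPt q ζ Y) :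
    X.2 = Y.2 ∧ X.1 ^ q = Y.1 ^ q ∧ s = 1 := by
  have e0 := congrFun h 0
  have e1 := congrFun h 1
  have e2 := congrFun h 2
  simp [vecPt] at e0 e1 e2
  have hs : s = 1 := by linear_combination e0 - e1
  subst hs
  rw [one_mul] at e0 e2
  exact ⟨add_left_cancel e0, e2, rfl⟩

variable (D : UFrame G Ω F q) (hF : Fintype.card F = q ^ 2)

/-- Rescaling `t` so that it fixes the point `(0, 1)`. -/
theorem exists_normalised (D : UFrame G Ω F q) (hF : Fintype.card F = q ^ 2) :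
    ∃ D' : UFrame G Ω F q, D'.f (0, 1) = (0, 1) := by
  obtain ⟨μ, hμ, hμ1⟩ := exists_norm_one_ne_one hF
  have hX := valid_centre (F := F) hF (one_pow q)
  have h0 : ((0, 1) : F × F) ≠ (0, 0) := by simp
  have hμ0 : μ ≠ 0 := fun e => by simp [e] at hμ
  have hv := D.f_valid hF hX h0
  have hne := D.f_ne hF hX h0
  obtain ⟨⟨b, c⟩, hbc⟩ : ∃ Y, Y = D.f (0, 1) := ⟨_, rfl⟩
  rw [← hbc] at hv hne
  have e : hdil q μ ((0, 1) : F × F) = (0, 1) := by simp [hdil, hμ]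
  have hfix := D.f_hdil hF hX h0 hμ0
  rw [e, ← hbc] at hfix
  have hinv : (μ ^ q)⁻¹ = μ := inv_eq_of_mul_eq_one_right (by rw [← pow_succ, hμ])
  rw [hinv] at hfix
  have hb : b = 0 := by
    have h := congrArg Prod.fst hfix
    have h' : b * (μ - 1) = 0 := by
      simp only [hdil] at h
      linear_combination -h
    exact (mul_eq_zero.1 h').resolve_right (sub_ne_zero.2 hμ1)
  subst hb
  have hcq : c ^ q = c := by
    have h : c + c ^ q = (0 : F) ^ (q + 1) := hv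
    rw [zero_pow (Nat.succ_ne_zero q)] at h
    exact (CharTwo.add_eq_zero.1 h).symm
  have hc0 : c ≠ 0 := fun e => hne (by rw [e])
  obtain ⟨l, hl, hlc⟩ := exists_sqrt_fixed hF (show c⁻¹ ^ q = c⁻¹ by rw [inv_pow, hcq])
  have hl0 : l ≠ 0 := fun e => inv_ne_zero hc0 (by rw [← hlc, e, zero_mul])
  set L : Fˣ := Units.mk0 l hl0
  have hLq : L ^ q = L := Units.ext (by simp [L, hl])
  have hta : (D.hh L * D.t) • D.a = D.t • D.a := by rw [mul_smul, D.hh_b]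
  let D' : UFrame G Ω F q :=
    { D with
      t := D.hh L * D.t
      t_sq := by
        calc D.hh L * D.t * (D.hh L * D.t) = D.hh L * (D.t * D.hh L) * D.t := by group
          _ = D.hh L * D.hh (L ^ q)⁻¹ * (D.t * D.t) := by rw [D.t_hh]; group
          _ = 1 := by rw [hLq, ← map_mul, mul_inv_cancel, map_one, D.t_sq, one_mul]
      t_move := by rw [hta]; exact D.t_move
      u_reg := by rw [hta]; exact D.u_reg
      hh_b := by rw [hta]; exact D.hh_b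
      hh_all := by rw [hta]; exact D.hh_all
      t_hh := fun k => by
        rw [mul_assoc, D.t_hh, ← mul_assoc, ← map_mul, mul_comm L, map_mul, mul_assoc] }
  have hpt : ∀ X, D'.pt X = D.pt X := fun X => by
    show D.u X • (D.hh L * D.t) • D.a = _
    rw [hta]; rfl
  refine ⟨D', D'.f_eq hF hX h0 hX ?_⟩
  rw [hpt]
  show (D.hh L * D.t) • D.pt (0, 1) = _
  rw [mul_smul, ← D.f_pt hF hX h0, ← hbc, D.hh_pt hF L hv]
  congr 1
  simp only [hdil, mul_zero, Prod.mk.injEq, true_and, L, Units.val_mk0, pow_succ, hl, hlc]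
  exact inv_mul_cancel₀ hc0

/-- The matrix `A` maps lines as `g` maps points. -/
def LineRel (ζ : F) (g : G) (A : ↥(Cfsg.GU 3 F q)) : Prop :=
  (∃ s : F, s ≠ 0 ∧ ((g • D.a = D.a ∧ A.1.1 *ᵥ eVec F = s • eVec F) ∨
    ∃ Y, Valid q Y ∧ g • D.a = D.pt Y ∧ A.1.1 *ᵥ eVec F = s • vecPt q ζ Y)) ∧
  ∀ X, Valid q X → ∃ s : F, s ≠ 0 ∧ ((g • D.pt X = D.a ∧ A.1.1 *ᵥ vecPt q ζ X = s • eVec F) ∨
    ∃ Y, Valid q Y ∧ g • D.pt X = D.pt Y ∧ A.1.1 *ᵥ vecPt q ζ X = s • vecPt q ζ Y)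

/-- The image of the line of a point under the relation. -/
theorem lineRel_mul {ζ : F} {g g' : G} {A A' : ↥(Cfsg.GU 3 F q)} (h : D.LineRel ζ g A)
    (h' : D.LineRel ζ g' A') : D.LineRel ζ (g * g') (A * A') := by
  have step : ∀ (c : Ω) (v : Fin 3 → F),
      (∃ s : F, s ≠ 0 ∧ ((c = D.a ∧ v = s • eVec F) ∨
        ∃ Y, Valid q Y ∧ c = D.pt Y ∧ v = s • vecPt q ζ Y)) →
      ∃ s : F, s ≠ 0 ∧ ((g • c = D.a ∧ A.1.1 *ᵥ v = s • eVec F) ∨
        ∃ Y, Valid q Y ∧ g • c = D.pt Y ∧ A.1.1 *ᵥ v = s • vecPt q ζ Y) := by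
    rintro c v ⟨s, hs, ⟨rfl, rfl⟩ | ⟨Y, hY, rfl, rfl⟩⟩
    · obtain ⟨r, hr, ⟨e1, e2⟩ | ⟨Z, hZ, e1, e2⟩⟩ := h.1
      · exact ⟨s * r, mul_ne_zero hs hr, Or.inl ⟨e1, by rw [Matrix.mulVec_smul, e2, smul_smul]⟩⟩
      · exact ⟨s * r, mul_ne_zero hs hr,
          Or.inr ⟨Z, hZ, e1, by rw [Matrix.mulVec_smul, e2, smul_smul]⟩⟩
    · obtain ⟨r, hr, ⟨e1, e2⟩ | ⟨Z, hZ, e1, e2⟩⟩ := h.2 Y hY
      · exact ⟨s * r, mul_ne_zero hs hr, Or.inl ⟨e1, by rw [Matrix.mulVec_smul, e2, smul_smul]⟩⟩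
      · exact ⟨s * r, mul_ne_zero hs hr,
          Or.inr ⟨Z, hZ, e1, by rw [Matrix.mulVec_smul, e2, smul_smul]⟩⟩
  have hm : ∀ v, (A * A').1.1 *ᵥ v = A.1.1 *ᵥ (A'.1.1 *ᵥ v) := fun v => by
    rw [Matrix.mulVec_mulVec]; rfl
  refine ⟨?_, fun X hX => ?_⟩
  · simp only [mul_smul, hm]
    exact step _ _ h'.1
  · simp only [mul_smul, hm]
    exact step _ _ (h'.2 X hX)

theorem lineRel_one (ζ : F) : D.LineRel ζ 1 1 :=
  ⟨⟨1, one_ne_zero, Or.inl ⟨one_smul _ _, by simp⟩⟩,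
    fun X hX => ⟨1, one_ne_zero, Or.inr ⟨X, hX, one_smul _ _, by simp⟩⟩⟩

/-- Inverses. -/
theorem lineRel_inv [Finite G] {ζ : F} {g : G} {A : ↥(Cfsg.GU 3 F q)} (h : D.LineRel ζ g A) :
    D.LineRel ζ g⁻¹ A⁻¹ := by
  haveI : Finite (Matrix (Fin 3) (Fin 3) F) := inferInstance
  let S : Submonoid (G × ↥(Cfsg.GU 3 F q)) :=
    { carrier := {p | D.LineRel ζ p.1 p.2}
      one_mem' := D.lineRel_one ζ
      mul_mem' := fun ha hb => D.lineRel_mul ha hb }
  have hmem : ((g, A) : G × ↥(Cfsg.GU 3 F q)) ∈ S := h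
  have hinv : ((g, A) : G × ↥(Cfsg.GU 3 F q))⁻¹ ∈ S := by
    rw [inv_eq_of_mul_eq_one_left (show (g, A) ^ (orderOf (g, A) - 1) * (g, A) = 1 by
      rw [← pow_succ, Nat.sub_add_cancel (orderOf_pos (g, A)), pow_orderOf_eq_one])]
    exact pow_mem hmem _
  exact hinv

variable {ζ : F} (hζ : IsTr q ζ)
include hF hζ

theorem vecPt_inj {X Y : F × F} {s : F} (h : vecPt q ζ X = s • vecPt q ζ Y) : X = Y := by
  obtain ⟨h2, h1, -⟩ := smul_vecPt h
  exact Prod.ext (by rw [← Forms.pow_q_pow_q hF X.1, h1, Forms.pow_q_pow_q hF]) h2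

theorem eq_one_of_scalar [FaithfulSMul G Ω] {g : G} {A : ↥(Cfsg.GU 3 F q)}
    (h : D.LineRel ζ g A) (hA : A ∈ Subgroup.center ↥(Cfsg.GU 3 F q)) : g = 1 := by
  obtain ⟨r, hr⟩ := central_scalar hF hA
  have hv : ∀ v, A.1.1 *ᵥ v = r • v := fun v => by
    rw [hr, Matrix.smul_mulVec, Matrix.one_mulVec]
  refine FaithfulSMul.eq_of_smul_eq_smul (α := Ω) fun c => ?_
  rw [one_smul]
  by_cases hc : c = D.a
  · subst hc
    obtain ⟨s, hs, ⟨e1, -⟩ | ⟨Y, hY, -, e2⟩⟩ := h.1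
    · exact e1
    · rw [hv] at e2
      exact absurd (show vecPt q ζ Y = (s⁻¹ * r) • eVec F by
        rw [← smul_smul, e2, smul_smul, inv_mul_cancel₀ hs, one_smul]) (vecPt_ne ζ Y _)
  · obtain ⟨X, hX, rfl⟩ := D.exists_pt hc
    obtain ⟨s, hs, ⟨-, e2⟩ | ⟨Y, hY, e1, e2⟩⟩ := h.2 X hX
    · rw [hv] at e2
      have hr0 : r ≠ 0 := fun e => by
        rw [e, zero_smul] at e2
        have := congrFun e2 0
        simp [eVec, hs.symm] at this
      exact absurd (show vecPt q ζ X = (r⁻¹ * s) • eVec F by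
        rw [← smul_smul, ← e2, smul_smul, inv_mul_cancel₀ hr0, one_smul]) (vecPt_ne ζ X _)
    · rw [hv] at e2
      have : Y = X := vecPt_inj hF hζ (s := s⁻¹ * r) (by
        rw [← smul_smul, e2, smul_smul, inv_mul_cancel₀ hs, one_smul])
      rw [e1, this]

theorem central_of_rel_one {A : ↥(Cfsg.GU 3 F q)} (h : D.LineRel ζ 1 A) :
    A ∈ Subgroup.center ↥(Cfsg.GU 3 F q) := by
  obtain ⟨α, -, ⟨-, he⟩ | ⟨Y, hY, e1, -⟩⟩ := h.1
  swap
  · rw [one_smul] at e1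
    exact absurd e1.symm (D.pt_ne hY)
  have hp : ∀ X, Valid q X → ∃ s : F, A.1.1 *ᵥ vecPt q ζ X = s • vecPt q ζ X := by
    intro X hX
    obtain ⟨s, -, ⟨e1, -⟩ | ⟨Y, hY, e1, e2⟩⟩ := h.2 X hX
    · rw [one_smul] at e1; exact absurd e1 (D.pt_ne hX)
    · rw [one_smul] at e1
      exact ⟨s, by rw [e2, ← D.pt_inj hX hY e1]⟩
  obtain ⟨β, h0⟩ := hp (0, 0) (valid_zero hF)
  obtain ⟨β', h1⟩ := hp (0, 1) (valid_centre hF (one_pow q))
  obtain ⟨s, hs⟩ := hp (1, ζ) (valid_tr hF hζ)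
  obtain ⟨s', hs'⟩ := hp (1, ζ + 1) (valid_tr hF (tr_succ hF hζ))
  have hq := qne hF
  refine scalar_central hF (a := α) ?_
  set M := A.1.1
  have a0 := congrFun he 0
  have a1 := congrFun he 1
  have a2 := congrFun he 2
  have b0 := congrFun h0 0
  have b1 := congrFun h0 1
  have b2 := congrFun h0 2
  have c0 := congrFun h1 0
  have c1 := congrFun h1 1
  have c2 := congrFun h1 2
  have d0 := congrFun hs 0
  have d1 := congrFun hs 1
  have d2 := congrFun hs 2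
  have d0' := congrFun hs' 0
  have d1' := congrFun hs' 1
  have d2' := congrFun hs' 2
  simp [vecPt, eVec, Matrix.mulVec, dotProduct, Fin.sum_univ_three, hq,
    CharTwo.add_self_eq_zero] at a0 a1 a2 b0 b1 b2 c0 c1 c2 d0 d1 d2 d0' d1' d2'
  have two := CharTwo.two_eq_zero (R := F)
  ext i j
  fin_cases i <;> fin_cases j <;> simp <;> grind

omit hζ in
theorem exists_u {X : F × F} (hX : Valid q X) : ∃ A, D.LineRel ζ (D.u X) A := by
  obtain ⟨k, k1, k2, k3⟩ := exists_stab hF (b := X.1) (c := X.2) (one_pow (q + 1)) hX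
  have hm := (coords hF k).2.2
  rw [k1, k2, k3] at hm
  refine ⟨k.1, ⟨1, one_ne_zero, Or.inl ⟨D.u_fix X hX, by rw [one_smul]; exact k.2⟩⟩, fun Y hY => ?_⟩
  refine ⟨1, one_ne_zero, Or.inr ⟨_, valid_hmul hF hX hY, D.u_pt hF hX hY, ?_⟩⟩
  rw [hm, one_smul]
  have two := CharTwo.two_eq_zero (R := F)
  funext i
  fin_cases i <;> simp [mat, vecPt, hmul, Matrix.mulVec, dotProduct, Fin.sum_univ_three, qadd hF] <;> grind

theorem exists_hh (l : Fˣ) : ∃ A, D.LineRel ζ (D.hh l) A := by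
  have two := CharTwo.two_eq_zero (R := F)
  have hz : ζ ^ q = ζ + 1 := tr_pow hF hζ
  set x : F := (l : F) with hx
  have hx0 : x ≠ 0 := l.ne_zero
  set L := x ^ q with hL
  have hL0 : L ≠ 0 := pow_ne_zero _ hx0
  have hLq : L ^ q = x := Forms.pow_q_pow_q hF x
  set M : Matrix (Fin 3) (Fin 3) F :=
    !![(1 + ζ) * L + ζ * x⁻¹, ζ * L + ζ * x⁻¹, 0;
       (1 + ζ) * L + (1 + ζ) * x⁻¹, ζ * L + (ζ + 1) * x⁻¹, 0;
       0, 0, L * x⁻¹] with hM
  have hdet : M.det ≠ 0 := by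
    have : M.det = (L * x⁻¹) * (L * x⁻¹) := by
      simp [hM, Matrix.det_fin_three]
      grind
    rw [this]
    exact mul_ne_zero (mul_ne_zero hL0 (inv_ne_zero hx0)) (mul_ne_zero hL0 (inv_ne_zero hx0))
  let U : GL (Fin 3) F := Matrix.GeneralLinearGroup.mkOfDetNeZero M hdet
  have hU : U ∈ Cfsg.GU 3 F q := by
    refine LinClasses.UnitaryThree.mem_GU_of_cols hF U fun i j => ?_
    show Forms.hermSesq hF 3 (fun k => M k i) (fun k => M k j) = _
    rw [Forms.hermSesq_apply hF]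
    fin_cases i <;> fin_cases j <;>
      simp [Cfsg.hermForm, Fin.sum_univ_three, hM, qadd hF, mul_pow, hLq, hz, inv_pow, ← hL, qne hF] <;>
      grind
  refine ⟨⟨U, hU⟩, ⟨L, hL0, Or.inl ⟨D.hh_a l, ?_⟩⟩, fun X hX => ?_⟩
  · show M *ᵥ eVec F = _
    funext i
    fin_cases i <;> simp [hM, eVec, vecHead, vecTail] <;> grind
  · refine ⟨x⁻¹, inv_ne_zero hx0, Or.inr ⟨_, valid_hdil hF hX _, D.hh_pt hF l hX, ?_⟩⟩
    show M *ᵥ vecPt q ζ X = _
    funext i
    fin_cases i <;> simp [hM, vecPt, hdil, ← hx, mul_pow, ← hL, pow_succ, vecHead, vecTail] <;> grind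

theorem exists_t (h1 : D.f (0, 1) = (0, 1)) : ∃ A, D.LineRel ζ D.t A := by
  have two := CharTwo.two_eq_zero (R := F)
  have hz : ζ ^ q = ζ + 1 := tr_pow hF hζ
  have hz2 : (ζ * ζ) ^ q = (ζ + 1) * (ζ + 1) := by rw [mul_pow, hz]
  set M : Matrix (Fin 3) (Fin 3) F :=
    !![1 + ζ + ζ * ζ, 1 + ζ * ζ, 0; ζ * ζ, 1 + ζ + ζ * ζ, 0; 0, 0, 1] with hM
  have hdet : M.det ≠ 0 := by
    have : M.det = 1 := by simp [hM, Matrix.det_fin_three]; grind
    rw [this]; exact one_ne_zero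
  let U : GL (Fin 3) F := Matrix.GeneralLinearGroup.mkOfDetNeZero M hdet
  have hU : U ∈ Cfsg.GU 3 F q := by
    refine LinClasses.UnitaryThree.mem_GU_of_cols hF U fun i j => ?_
    show Forms.hermSesq hF 3 (fun k => M k i) (fun k => M k j) = _
    rw [Forms.hermSesq_apply hF]
    fin_cases i <;> fin_cases j <;>
      simp [Cfsg.hermForm, Fin.sum_univ_three, hM, qadd hF, hz, hz2, qne hF] <;>
      grind
  refine ⟨⟨U, hU⟩, ⟨1, one_ne_zero, Or.inr ⟨(0, 0), valid_zero hF, (D.pt_zero hF).symm, ?_⟩⟩,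
    fun X hX => ?_⟩
  · show M *ᵥ eVec F = _
    funext i
    fin_cases i <;> simp [hM, eVec, vecPt, qne hF, vecHead, vecTail] <;> grind
  · by_cases h0 : X = (0, 0)
    · subst h0
      refine ⟨1, one_ne_zero, Or.inl ⟨by rw [D.pt_zero hF, D.t_t], ?_⟩⟩
      show M *ᵥ vecPt q ζ (0, 0) = _
      funext i
      fin_cases i <;> simp [hM, eVec, vecPt, qne hF, vecHead, vecTail] <;> grind
    · have hc : X.2 ≠ 0 := fun e => by
        have h : X.2 + X.2 ^ q = X.1 ^ (q + 1) := hX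
        rw [e, zero_pow (qne hF), add_zero] at h
        exact h0 (Prod.ext (eq_zero_of_pow_eq_zero h.symm) e)
      refine ⟨X.2, hc, Or.inr ⟨_, D.f_valid hF hX h0, (D.f_pt hF hX h0).symm, ?_⟩⟩
      show M *ᵥ vecPt q ζ X = _
      rw [D.f_formula hF h1 hX h0]
      funext i
      fin_cases i <;>
        simp [hM, vecPt, div_pow, Forms.pow_q_pow_q hF, vecHead, vecTail] <;> field_simp <;> grind

theorem exists_rel_matrix (h1 : D.f (0, 1) = (0, 1)) (g : G) : ∃ A, D.LineRel ζ g A := by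
  have hfix : ∀ g : G, g • D.a = D.a → ∃ A, D.LineRel ζ g A := by
    intro g hg
    obtain ⟨X, l, hX, rfl⟩ := D.exists_of_fix hF hg
    obtain ⟨A, hA⟩ := D.exists_u hF (ζ := ζ) hX
    obtain ⟨B, hB⟩ := D.exists_hh hF hζ l
    exact ⟨B * A, D.lineRel_mul hB hA⟩
  by_cases hg : g • D.a = D.a
  · exact hfix g hg
  · obtain ⟨X, hX, e⟩ := D.exists_pt hg
    obtain ⟨A, hA⟩ := D.exists_u hF (ζ := ζ) hX
    obtain ⟨B, hB⟩ := D.exists_t hF hζ h1
    obtain ⟨C, hC⟩ := hfix ((D.u X * D.t)⁻¹ * g) (by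
      rw [mul_smul, inv_smul_eq_iff, mul_smul]; exact e.symm)
    exact ⟨A * B * C, by
      have := D.lineRel_mul (D.lineRel_mul hA hB) hC
      rwa [mul_inv_cancel_left] at this⟩

omit hζ in
theorem card_center : Nat.card (Subgroup.center ↥(Cfsg.GU 3 F q)) = q + 1 := by
  rw [← Classical.natCard_normOne hF]
  symm
  have hsc : ∀ x : {x : F // x ^ (q + 1) = 1}, ∃ g : Subgroup.center ↥(Cfsg.GU 3 F q),
      g.1.1.1 = x.1 • (1 : Matrix (Fin 3) (Fin 3) F) := fun x => by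
    obtain ⟨g, hg⟩ := exists_diag hF (d := fun _ => x.1) (fun _ => x.2)
    have hg' : g.1.1 = x.1 • (1 : Matrix (Fin 3) (Fin 3) F) := by
      rw [hg, Matrix.smul_one_eq_diagonal]
    exact ⟨⟨g, scalar_central hF hg'⟩, hg'⟩
  choose e he using hsc
  refine Nat.card_congr (Equiv.ofBijective e ⟨fun x y h => ?_, fun z => ?_⟩)
  · have := (he x).symm.trans ((congrArg (fun w => w.1.1.1) h).trans (he y))
    have h00 := congrFun (congrFun this 0) 0
    simp at h00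
    exact Subtype.ext h00
  · obtain ⟨a, ha⟩ := central_scalar hF z.2
    have hn : a ^ (q + 1) = 1 := by
      have h := z.1.2 (Pi.single (0 : Fin 3) 1) (Pi.single (0 : Fin 3) 1)
      simp [Cfsg.hermForm, Fin.sum_univ_three, ha, qne hF] at h
      rw [pow_succ']
      exact h
    refine ⟨⟨a, hn⟩, Subtype.ext (Subtype.ext (Units.ext ?_))⟩
    rw [ha]; exact he ⟨a, hn⟩

/-- The isomorphism with `PGU₃(q)`. -/
theorem nonempty_iso_pgu [Finite G] [FaithfulSMul G Ω] (h1 : D.f (0, 1) = (0, 1))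
    (hcard : Nat.card G = q ^ 3 * ((q ^ 2 - 1) * (q ^ 3 + 1))) :
    Nonempty (G ≃* ↥(Cfsg.GU 3 F q) ⧸ Subgroup.center ↥(Cfsg.GU 3 F q)) := by
  choose A hA using D.exists_rel_matrix hF hζ h1
  let φ : G →* ↥(Cfsg.GU 3 F q) ⧸ Subgroup.center ↥(Cfsg.GU 3 F q) :=
    MonoidHom.mk' (fun g => (A g : ↥(Cfsg.GU 3 F q) ⧸ Subgroup.center ↥(Cfsg.GU 3 F q))) fun g g' => by
      rw [← QuotientGroup.mk_mul, QuotientGroup.eq]
      refine D.central_of_rel_one hF hζ ?_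
      have := D.lineRel_mul (D.lineRel_inv (hA (g * g'))) (D.lineRel_mul (hA g) (hA g'))
      rwa [inv_mul_cancel] at this
  have hinj : Function.Injective φ := (injective_iff_map_eq_one φ).2 fun g hg =>
    D.eq_one_of_scalar hF hζ (hA g) ((QuotientGroup.eq_one_iff _).1 hg)
  refine ⟨MulEquiv.ofBijective φ ((Nat.bijective_iff_injective_and_card _).2 ⟨hinj, ?_⟩)⟩
  have h := Subgroup.card_eq_card_quotient_mul_card_subgroup (Subgroup.center ↥(Cfsg.GU 3 F q))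
  rw [card_center hF, Classical.natCard_GU hF 3] at h
  simp [Finset.prod_range_succ, Nat.even_iff] at h
  rw [hcard]
  refine Nat.eq_of_mul_eq_mul_right (Nat.succ_pos q) ?_
  rw [Nat.succ_eq_add_one, ← h]
  ring

end Cfsg.Agent.Lib.UThreeTwoRecog26.UFrame
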