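import Cfsg.Agent.Lib.UThreeTwoRecog26.UTorus
import Cfsg.Agent.Lib.UThreeTwoRecog26.UIso

/-!
The characterisation of `PGU₃(q)`, `q` even, by the centraliser of an involution.
-/

set_option autoImplicit false
set_option linter.unusedSectionVars false
set_option linter.style.haveILetI false

namespace Cfsg.Agent.Lib.UThreeTwoRecog26

universe u v

namespace Coord

variable {G : Type u} [Group G] [Finite G] {q n : ℕ} {B : Base G q n}
variable {F : Type v} [Field F] [Fintype F] [CharP F 2]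

/-- The element with given coordinates. -/
noncomputable def elt (W : Coord B F) (X : F × F) : G :=
  open _root_.Classical in
  if h : ∃ p, muC p = 1 ∧ (bC p, cC p) = X then W.emb h.choose else 1

variable (W : Coord B F) {t : G}

theorem elt_coords {p : ↥(stab F q)} (hp : muC p = 1) : W.elt (bC p, cC p) = W.emb p := by
  have h : ∃ p', muC p' = 1 ∧ (bC p', cC p') = (bC p, cC p) := ⟨p, hp, rfl⟩
  rw [elt, dif_pos h]
  obtain ⟨h1, h2⟩ := h.choose_spec
  exact congrArg W.emb (stab_ext W.hF (h1.trans hp.symm) (congrArg Prod.fst h2) (congrArg Prod.snd h2))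

theorem exists_pre {X : F × F} (hX : Valid q X) :
    ∃ p, muC p = 1 ∧ (bC p, cC p) = X ∧ W.elt X = W.emb p := by
  obtain ⟨p, h1, h2, h3⟩ := exists_stab W.hF (one_pow (q + 1)) hX
  exact ⟨p, h1, Prod.ext h2 h3, by rw [← W.elt_coords h1, h2, h3]⟩

theorem elt_mem_P {X : F × F} (hX : Valid q X) : W.elt X ∈ B.P := by
  obtain ⟨p, h1, -, h3⟩ := W.exists_pre hX
  rw [h3, W.mem_P]; exact h1

theorem exists_elt {g : G} (hg : g ∈ B.P) : ∃ X, Valid q X ∧ W.elt X = g := by
  obtain ⟨p, rfl⟩ := (W.mem_C g).1 (B.hP.le hg)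
  exact ⟨(bC p, cC p), (coords W.hF p).2.1, W.elt_coords ((W.mem_P p).1 hg)⟩

theorem elt_inj {X Y : F × F} (hX : Valid q X) (hY : Valid q Y) (h : W.elt X = W.elt Y) : X = Y := by
  obtain ⟨p, -, h2, h3⟩ := W.exists_pre hX
  obtain ⟨p', -, h2', h3'⟩ := W.exists_pre hY
  rw [← h2, ← h2', W.inj (h3.symm.trans (h.trans h3'))]

theorem elt_mul {X Y : F × F} (hX : Valid q X) (hY : Valid q Y) :
    W.elt X * W.elt Y = W.elt (hmul q X Y) := by
  obtain ⟨p, h1, rfl, h3⟩ := W.exists_pre hX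
  obtain ⟨p', h1', rfl, h3'⟩ := W.exists_pre hY
  obtain ⟨a1, a2, a3⟩ := unip_mul W.hF h1 h1'
  rw [h3, h3', ← map_mul, ← W.elt_coords a1, a2, a3]
  rfl

/-- Every element of `M` is a product of one of `P` and one of `D`. -/
theorem exists_PD (ht : B.Out t) (hlift : ∀ μ : F, μ ^ (q + 1) = 1 → ∃ y, W.emb y ∈ B.D t ∧ muC y = μ)
    {g : G} (hg : g ∈ B.M) : ∃ X, Valid q X ∧ (W.elt X)⁻¹ * g ∈ B.D t := by
  obtain ⟨k, hk, hkC⟩ := Base.exists_J ht hg
  obtain ⟨y, hy⟩ := (W.mem_C _).1 hkC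
  obtain ⟨e, he, hm⟩ := hlift _ (coords W.hF y).1
  have hP : W.emb y * (W.emb e)⁻¹ ∈ B.P := by
    rw [← map_inv, ← map_mul, W.mem_P, (mul_coords W.hF _ _).1, (inv_coords W.hF e).1, hm]
    exact mul_inv_cancel₀ fun h0 => by
      have := (coords W.hF y).1
      simp [h0] at this
  obtain ⟨X, hX, hXe⟩ := W.exists_elt (B.conj_P_mem (hk : k ∈ B.J t).1 hP)
  refine ⟨X, hX, ?_⟩
  rw [hXe, hy, show (k * (k⁻¹ * g * (W.emb e)⁻¹) * k⁻¹)⁻¹ * g = k * W.emb e by group]
  exact mul_mem (Base.J_mem_D ht hk) he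

theorem exists_point (ht : B.Out t) (hlift : ∀ μ : F, μ ^ (q + 1) = 1 → ∃ y, W.emb y ∈ B.D t ∧ muC y = μ)
    {c : G ⧸ B.M} (hc : c ≠ ((1 : G) : G ⧸ B.M)) :
    ∃! X, Valid q X ∧ W.elt X • (t • ((1 : G) : G ⧸ B.M)) = c := by
  induction c using QuotientGroup.induction_on with | H g => ?_
  have hg : g ∉ B.M := fun h => hc (QuotientGroup.eq.2 (by rw [mul_one]; exact inv_mem h))
  obtain ⟨v, hv, ev⟩ := Base.exists_out_of_not_mem hg
  obtain ⟨m, hm, e⟩ := Base.exists_move ht hv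
  obtain ⟨X, hX, hd⟩ := W.exists_PD ht hlift hm
  have hX' : W.elt X • (t • ((1 : G) : G ⧸ B.M)) = (g : G ⧸ B.M) := by
    rw [MulAction.Quotient.smul_coe, MulAction.Quotient.smul_coe, smul_eq_mul, smul_eq_mul, mul_one,
      ← ev, ← e, QuotientGroup.eq]
    rw [show (W.elt X * t)⁻¹ * (m * t) = t⁻¹ * ((W.elt X)⁻¹ * m) * t by group,
      inv_eq_self ht.order]
    exact ((Base.mem_D ht).1 hd).2
  refine ⟨X, ⟨hX, hX'⟩, fun Y hY => W.elt_inj hY.1 hX ?_⟩
  have h := hY.2.trans hX'.symm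
  rw [MulAction.Quotient.smul_coe, MulAction.Quotient.smul_coe, MulAction.Quotient.smul_coe,
    smul_eq_mul, smul_eq_mul, smul_eq_mul, mul_one, QuotientGroup.eq] at h
  rw [show (W.elt Y * t)⁻¹ * (W.elt X * t) = t⁻¹ * ((W.elt Y)⁻¹ * W.elt X) * t by group,
    inv_eq_self ht.order] at h
  have hP := mul_mem (inv_mem (W.elt_mem_P hY.1)) (W.elt_mem_P hX)
  exact inv_mul_eq_one.1 (Base.P_inter_D ht hP ((Base.mem_D ht).2 ⟨B.P_le_M hP, h⟩))

/-- The two-point stabiliser is the group of units. -/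
theorem exists_torus (ht : B.Out t) (hdiag : ∀ y, W.emb y ∈ B.D t → bC y = 0 ∧ cC y = 0)
    (hlift : ∀ μ : F, μ ^ (q + 1) = 1 → ∃ y, W.emb y ∈ B.D t ∧ muC y = μ) :
    ∃ hh : Fˣ →* G, (∀ l, hh l ∈ B.D t) ∧ (∀ d ∈ B.D t, ∃ l, hh l = d) ∧
      (∀ (l : Fˣ) X, Valid q X → hh l * W.elt X = W.elt (hdil q (l : F) X) * hh l) ∧
      ∀ l, t * hh l = hh ((l ^ q)⁻¹) * t := by
  classical
  have hF := W.hF
  have hex : ∀ d : B.D t, ∃ l : Fˣ, ∀ X, Valid q X →
      (d : G) * W.elt X * (d : G)⁻¹ = W.elt (hdil q (l : F) X) := by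
    intro d
    obtain ⟨l, hl⟩ := W.exists_dilation ht hdiag hlift d.2
    refine ⟨l, fun X hX => ?_⟩
    obtain ⟨p, h1, h2, h3⟩ := W.exists_pre hX
    obtain ⟨p', h1', h2', h3'⟩ := hl p h1
    rw [h3, h2', ← h2, ← h3', W.elt_coords h1']
  choose χ hχ using hex
  obtain ⟨v, hv⟩ := exists_trace hF (one_pow q)
  have hX₁ : Valid q ((1, v) : F × F) := UFrame.valid_tr hF hv
  have huniq : ∀ (d : B.D t) (l : Fˣ),
      (d : G) * W.elt (1, v) * (d : G)⁻¹ = W.elt (hdil q (l : F) (1, v)) → χ d = l := by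
    intro d l h
    have := W.elt_inj (valid_hdil hF hX₁ _) (valid_hdil hF hX₁ _) ((hχ d _ hX₁).symm.trans h)
    refine Units.ext ?_
    have h1 := congrArg Prod.fst this
    simpa [hdil] using h1
  let χh : B.D t →* Fˣ := MonoidHom.mk' χ fun a b => huniq _ _ (by
    rw [Units.val_mul, ← hdil_hdil, ← hχ a _ (valid_hdil hF hX₁ _), ← hχ b _ hX₁, Subgroup.coe_mul]
    group)
  have hinj : Function.Injective χh := by
    refine (injective_iff_map_eq_one χh).2 fun d hd => ?_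
    have hc : ∀ g ∈ B.P, Commute (d : G) g := by
      intro g hg
      obtain ⟨X, hX, rfl⟩ := W.exists_elt hg
      have := hχ d X hX
      rw [show χ d = 1 from hd, Units.val_one, hdil_one] at this
      exact mul_inv_eq_iff_eq_mul.1 this
    have hdC : (d : G) ∈ B.C := Subgroup.mem_centralizer_singleton_iff.2 (hc B.x B.x_mem_P).eq
    exact Subtype.ext (Base.P_inter_D ht (B.hP.self_cent _ hdC hc) d.2)
  have hbij : Function.Bijective χh := by
    refine (Nat.bijective_iff_injective_and_card _).2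
      ⟨hinj, le_antisymm (Nat.card_le_card_of_injective _ hinj) ?_⟩
    choose y hy hym using fun μ : {μ : F // μ ^ (q + 1) = 1} => hlift μ.1 μ.2
    have hcard : Nat.card ({μ : F // μ ^ (q + 1) = 1} × Base.K ht) = Nat.card Fˣ := by
      rw [Nat.card_prod, Classical.natCard_normOne hF, Base.card_K, Nat.card_units,
        Nat.card_eq_fintype_card, hF, ← one_pow 2, Nat.sq_sub_sq, one_pow]
    rw [← hcard]
    refine Nat.card_le_card_of_injective
      (fun z => (⟨(z.2 : G) * W.emb (y z.1), mul_mem (Base.J_mem_D ht z.2.2) (hy z.1)⟩ : B.D t)) ?_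
    rintro ⟨μ, k⟩ ⟨μ', k'⟩ h
    have h' : (k : G) * W.emb (y μ) = (k' : G) * W.emb (y μ') := congrArg Subtype.val h
    have hk : (k' : G)⁻¹ * k = W.emb (y μ') * (W.emb (y μ))⁻¹ := by
      rw [eq_mul_inv_iff_mul_eq, mul_assoc, h', inv_mul_cancel_left]
    have h1 := Base.K_inf_C ht (mul_mem (inv_mem k'.2) k.2)
      (hk ▸ mul_mem (W.emb_mem _) (inv_mem (W.emb_mem _)))
    rw [h1] at hk
    have hy' : y μ' = y μ := W.inj (mul_inv_eq_one.1 hk.symm)
    have hμ : μ.1 = μ'.1 := by rw [← hym μ, ← hy', hym]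
    exact Prod.ext (Subtype.ext hμ) (Subtype.ext (inv_mul_eq_one.1 h1).symm)
  let e : B.D t ≃* Fˣ := MulEquiv.ofBijective χh hbij
  have heχ : ∀ l, χ (e.symm l) = l := fun l => e.apply_symm_apply l
  refine ⟨(B.D t).subtype.comp e.symm.toMonoidHom, fun l => (e.symm l).2,
    fun d hd => ⟨e ⟨d, hd⟩, by simp⟩, fun l X hX => ?_, fun l => ?_⟩
  · show ((e.symm l : B.D t) : G) * W.elt X = _
    have := hχ (e.symm l) X hX
    rw [heχ] at this
    exact mul_inv_eq_iff_eq_mul.1 this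
  · show t * ((e.symm l : B.D t) : G) = ((e.symm (l ^ q)⁻¹ : B.D t) : G) * t
    set d := e.symm l with hd
    obtain ⟨k, hk, hkC⟩ := Base.exists_J ht ((Base.mem_D ht).1 d.2).1
    have hkD := Base.J_mem_D ht hk
    have heD : k⁻¹ * (d : G) ∈ B.D t := mul_mem (inv_mem hkD) d.2
    set a : B.D t := ⟨k, hkD⟩
    set b : B.D t := ⟨k⁻¹ * (d : G), heD⟩
    have hab : d = a * b := Subtype.ext (by simp [a, b])
    have ha : χh a ^ (q - 1) = 1 := by
      rw [← map_pow, show a ^ (q - 1) = 1 from Subtype.ext (by simp [a, Base.J_pow ht hk]), map_one]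
    have hb : χh b ^ (q + 1) = 1 := by
      rw [← map_pow, show b ^ (q + 1) = 1 from Subtype.ext (by
        simp [b, Base.pow_q_add_one hkC (Base.odd_of_mem_D ht heD)]), map_one]
    have hl : (l ^ q)⁻¹ = χh (a⁻¹ * b) := by
      have hl' : l = χh a * χh b := by rw [← map_mul, ← hab]; exact (heχ l).symm
      rw [map_mul, map_inv, hl', mul_pow, mul_inv]
      congr 1
      · have h2 := B.two_lt
        congr 1
        calc χh a ^ q = χh a ^ (q - 1 + 1) := by rw [Nat.sub_add_cancel (by omega : 1 ≤ q)]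
          _ = χh a := by rw [pow_succ, ha, one_mul]
      · exact inv_eq_of_mul_eq_one_right (by rw [← pow_succ, hb])
    rw [hl, show e.symm (χh (a⁻¹ * b)) = a⁻¹ * b from e.symm_apply_apply _]
    have hte : t * (k⁻¹ * (d : G)) = k⁻¹ * (d : G) * t := by
      have := Base.conj_eq_of_mem ht heD hkC
      calc t * (k⁻¹ * (d : G)) = t * (k⁻¹ * (d : G)) * (t * t) := by
            rw [mul_self_inv ht.order, mul_one]
        _ = t * (k⁻¹ * (d : G)) * t * t := by group
        _ = _ := by rw [this]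
    have htk : t * k = k⁻¹ * t := by
      calc t * k = t * k * (t * t) := by rw [mul_self_inv ht.order, mul_one]
        _ = t * k * t * t := by group
        _ = _ := by rw [hk.2]
    calc t * (d : G) = t * k * (k⁻¹ * (d : G)) := by group
      _ = k⁻¹ * (t * (k⁻¹ * (d : G))) := by rw [htk]; group
      _ = ((a⁻¹ * b : B.D t) : G) * t := by rw [hte]; simp [a, b, mul_assoc]

/-- The frame and the order. -/
theorem exists_frame (W : Coord B F) (ht : B.Out t) :
    ∃ _ : UFrame G (G ⧸ B.M) F q, Nat.card G = q ^ 3 * ((q ^ 2 - 1) * (q ^ 3 + 1)) := by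
  classical
  obtain ⟨W, hdiag, hlift⟩ := W.exists_diag_coord ht
  have hF := W.hF
  obtain ⟨hh, hhD, hhall, hhconj, hht⟩ := W.exists_torus ht hdiag hlift
  have hstab : ∀ g, g • ((1 : G) : G ⧸ B.M) = ((1 : G) : G ⧸ B.M) ↔ g ∈ B.M := fun g => by
    have := Base.stabilizer_base B
    rw [← MulAction.mem_stabilizer_iff, this]
  have htwo : ∀ g, g ∈ B.D t ↔ g • ((1 : G) : G ⧸ B.M) = ((1 : G) : G ⧸ B.M) ∧
      g • (t • ((1 : G) : G ⧸ B.M)) = t • ((1 : G) : G ⧸ B.M) := fun g => by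
    rw [← Base.two_point ht, Subgroup.mem_inf, MulAction.mem_stabilizer_iff,
      MulAction.mem_stabilizer_iff]
  refine ⟨{ a := ((1 : G) : G ⧸ B.M), t := t, u := W.elt, hh := hh
            t_sq := mul_self_inv ht.order
            t_move := fun h => ht.not_mem ((hstab t).1 h)
            u_mul := fun X Y hX hY => W.elt_mul hX hY
            u_fix := fun X hX => (hstab _).2 (B.P_le_M (W.elt_mem_P hX))
            u_reg := fun c hc => W.exists_point ht hlift hc
            hh_a := fun l => ((htwo _).1 (hhD l)).1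
            hh_b := fun l => ((htwo _).1 (hhD l)).2
            hh_all := fun g h1 h2 => hhall g ((htwo g).2 ⟨h1, h2⟩)
            hh_conj := hhconj
            t_hh := hht }, ?_⟩
  have e : Option {X : F × F // Valid q X} ≃ G ⧸ B.M := by
    refine Equiv.ofBijective (fun o => o.elim ((1 : G) : G ⧸ B.M)
      fun X => W.elt X.1 • (t • ((1 : G) : G ⧸ B.M))) ⟨?_, fun c => ?_⟩
    · have hne : ∀ X : {X : F × F // Valid q X},
          W.elt X.1 • (t • ((1 : G) : G ⧸ B.M)) ≠ ((1 : G) : G ⧸ B.M) := fun X h =>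
        ht.not_mem ((hstab t).1 (smul_left_cancel (W.elt X.1)
          (h.trans ((hstab _).2 (B.P_le_M (W.elt_mem_P X.2))).symm)))
      rintro (_ | X) (_ | Y) h
      · rfl
      · exact absurd h.symm (hne Y)
      · exact absurd h (hne X)
      · exact congrArg some (Subtype.ext
          ((W.exists_point ht hlift (hne Y)).unique ⟨X.2, h⟩ ⟨Y.2, rfl⟩))
    · by_cases hc : c = ((1 : G) : G ⧸ B.M)
      · exact ⟨none, hc.symm⟩
      · obtain ⟨X, ⟨hX, hXc⟩, -⟩ := W.exists_point ht hlift hc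
        exact ⟨some ⟨X, hX⟩, hXc⟩
  have hidx : B.M.index = q ^ 3 + 1 := by
    rw [Subgroup.index, ← Nat.card_congr e, Finite.card_option]
    exact congrArg (· + 1) (card_pairs hF)
  rw [← B.M.index_mul_card, B.card_M, hidx,
    show q ^ 2 - 1 = (q + 1) * (q - 1) by rw [← one_pow 2, Nat.sq_sub_sq, one_pow]]
  ring

end Coord

/-- The characterisation. -/
theorem nonempty_pgu_iso {G : Type u} [Group G] [Finite G] {F : Type v} [Field F] [Fintype F]
    [CharP F 2] {q : ℕ} (hF : Fintype.card F = q ^ 2) (hq : 2 < q)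
    (heven : Even (Nat.card G)) (hconj : ∀ s t : G, orderOf s = 2 → orderOf t = 2 → IsConj s t)
    (hC : ∀ (x : G) (y : (↥(Cfsg.GU 3 F q) ⧸ Subgroup.center ↥(Cfsg.GU 3 F q))),
      orderOf x = 2 → orderOf y = 2 →
      Nonempty (↥(Subgroup.centralizer ({x} : Set G)) ≃* ↥(Subgroup.centralizer
        ({y} : Set (↥(Cfsg.GU 3 F q) ⧸ Subgroup.center ↥(Cfsg.GU 3 F q))))))
    (hS : ∀ P : Sylow 2 G, ¬ (P : Subgroup G).Normal) :
    Nonempty (G ≃* ↥(Cfsg.GU 3 F q) ⧸ Subgroup.center ↥(Cfsg.GU 3 F q)) := by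
  obtain ⟨n, h⟩ := hyp_of_statement hF hq heven hconj hC hS
  obtain ⟨x, hx⟩ := h.exists_inv
  obtain ⟨P, hP⟩ := h.cent x hx
  let B : Base G q n := { toHyp := h, x := x, P := P, hx := hx, hP := hP }
  obtain ⟨y, hy, ⟨θ⟩⟩ := exists_centralizer_equiv hF
  obtain ⟨e⟩ := hC x y hx hy
  obtain ⟨W⟩ := Coord.nonempty_of_iso (B := B) hF (θ.trans e.symm)
  obtain ⟨g₀, hg₀⟩ := B.exists_not_mem
  obtain ⟨t, ht, -⟩ := Base.exists_out_of_not_mem hg₀
  obtain ⟨D, hcard⟩ := W.exists_frame ht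
  obtain ⟨D', h1⟩ := D.exists_normalised hF
  haveI := Base.faithful (B := B)
  obtain ⟨ζ, hζ⟩ := exists_trace hF (one_pow q)
  exact D'.nonempty_iso_pgu hF hζ h1 hcard

end Cfsg.Agent.Lib.UThreeTwoRecog26
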