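import Cfsg.Agent.Lib.UThreeTwoRecog26.UFrame
import Cfsg.Agent.Lib.UThreeTwoRecog26.Model

/-!
The action of `t` in coordinates: `(b, c) ↦ (b / c^q, 1 / c)`.

The first coordinates of the images of the points `(1, v)`, with `0`, form a set of `q + 1`
elements mapped to itself by affine maps moving `0` to each of its points; as `q + 1` is odd such a
map fixes the sum `S`, so the set is `S (1 + μ)`, `μ^(q+1) = 1`. The second coordinate differs
from `S φ^q` by a function additive along these maps, hence zero.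
-/

set_option autoImplicit false
set_option linter.unusedSectionVars false
set_option linter.style.haveILetI false

namespace Cfsg.Agent.Lib.UThreeTwoRecog26.UFrame

variable {G Ω F : Type*} [Group G] [MulAction G Ω] [Field F] [Fintype F] [CharP F 2] {q : ℕ}
variable (D : UFrame G Ω F q) (hF : Fintype.card F = q ^ 2)

/-- The elements of trace one. -/
def IsTr (q : ℕ) (v : F) : Prop := v + v ^ q = 1

/-- First coordinate of the image of `(1, v)`. -/
noncomputable def phi (v : F) : F := (D.f (1, v)).1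

/-- Second coordinate of the image of `(1, v)`. -/
noncomputable def tau (v : F) : F := (D.f (1, v)).2

include hF

theorem exists_sqrt_fixed {r : F} (hr : r ^ q = r) : ∃ l : F, l ^ q = l ∧ l * l = r := by
  obtain ⟨l, hl⟩ := FiniteField.isSquare_of_char_two (ringChar.eq F 2) r
  refine ⟨l, ?_, hl.symm⟩
  have h : l ^ q * l ^ q = l * l := by rw [← mul_pow, ← hl, hr]
  have h2 : (l ^ q + l) * (l ^ q + l) = 0 := by
    linear_combination h + (l * l + l ^ q * l) * (CharTwo.two_eq_zero (R := F))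
  exact CharTwo.add_eq_zero.1 (mul_self_eq_zero.1 h2)

theorem valid_centre {r : F} (hr : r ^ q = r) : Valid q ((0, r) : F × F) := by
  simp [Valid, hr, CharTwo.add_self_eq_zero]

theorem valid_tr {v : F} (hv : IsTr q v) : Valid q ((1, v) : F × F) := by
  simpa [Valid, IsTr] using hv

theorem ne_of_fst_one {v : F} : ((1, v) : F × F) ≠ (0, 0) := fun e => one_ne_zero (congrArg Prod.fst e)

theorem tr_pow {v : F} (hv : IsTr q v) : v ^ q = v + 1 := by
  unfold IsTr at hv
  linear_combination hv - v * (CharTwo.two_eq_zero (R := F))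

theorem tr_succ {v : F} (hv : IsTr q v) : IsTr q (v + 1) := by
  unfold IsTr at *
  rw [qadd hF, one_pow]
  linear_combination hv + CharTwo.two_eq_zero (R := F)

theorem tr_ne_zero {v : F} (hv : IsTr q v) : v ≠ 0 := fun e => by
  simp [IsTr, e, qne hF] at hv

theorem tr_add {v r : F} (hv : IsTr q v) (hr : r ^ q = r) : IsTr q (v + r) := by
  unfold IsTr at *
  rw [qadd hF, hr]
  linear_combination hv + r * (CharTwo.two_eq_zero (R := F))

theorem card_tr [DecidablePred (fun v : F => IsTr q v)] :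
    (Finset.univ.filter (fun v : F => IsTr q v)).card = q := by
  obtain ⟨v₀, hv₀⟩ := exists_trace hF (one_pow q)
  rw [← Fintype.card_subtype, ← Nat.card_eq_fintype_card]
  conv_rhs => rw [← card_fixed hF]
  refine Nat.card_congr (Equiv.subtypeEquiv (Equiv.addRight v₀) fun v => ?_)
  show v + v ^ q = 1 ↔ v + v₀ + (v + v₀) ^ q = 0
  rw [qadd hF]
  constructor
  · intro h; linear_combination h + hv₀ + CharTwo.two_eq_zero (R := F)
  · intro h; linear_combination h - hv₀ - CharTwo.two_eq_zero (R := F)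

theorem even_q : Even q := by
  obtain ⟨n', -, hn⟩ := FiniteField.card F 2
  have : Even (q ^ 2) := by
    rw [← hF, hn]; exact Nat.even_pow.2 ⟨even_two, n'.pos.ne'⟩
  exact (Nat.even_pow.1 this).1

variable (h1 : D.f (0, 1) = (0, 1))
include h1

theorem f_centre {r : F} (hr : r ^ q = r) (hr0 : r ≠ 0) : D.f (0, r) = (0, r⁻¹) := by
  obtain ⟨l, hl, hlr⟩ := exists_sqrt_fixed hF hr
  have hl0 : l ≠ 0 := fun e => hr0 (by rw [← hlr, e, zero_mul])
  have hN : l ^ (q + 1) = r := by rw [pow_succ, hl, hlr]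
  have e : ((0, r) : F × F) = hdil q l (0, 1) := by simp [hdil, hN]
  rw [e, D.f_hdil hF (valid_centre hF (one_pow q)) (by simp) hl0, h1]
  refine Prod.ext (by simp [hdil]) ?_
  simp only [hdil, mul_one]
  rw [inv_pow, hl, hN]

theorem phi_ne {v : F} (hv : IsTr q v) : D.phi v ≠ 0 := by
  intro h0
  have hX := valid_tr hF hv
  have hA := D.f_valid hF hX (ne_of_fst_one hF)
  have hA0 := D.f_ne hF hX (ne_of_fst_one hF)
  have hfst : (D.f (1, v)).1 = 0 := h0
  obtain ⟨τ, hτ⟩ : ∃ τ, D.f (1, v) = (0, τ) := ⟨_, Prod.ext hfst rfl⟩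
  rw [hτ] at hA hA0
  have hτq : τ ^ q = τ := by
    simp only [Valid, ne_eq, Nat.add_eq_zero_iff, one_ne_zero, and_false, not_false_eq_true,
      zero_pow] at hA
    exact (CharTwo.add_eq_zero.1 hA).symm
  have h2 := D.f_f hF hX (ne_of_fst_one hF)
  rw [hτ, D.f_centre hF h1 hτq (fun e => hA0 (by rw [e]))] at h2
  exact zero_ne_one (congrArg Prod.fst h2)

theorem phi_tau_valid {v : F} (hv : IsTr q v) : D.tau v + D.tau v ^ q = D.phi v ^ (q + 1) :=
  D.f_valid hF (valid_tr hF hv) (ne_of_fst_one hF)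

/-- The images of the points with first coordinate `c`. -/
theorem f_of_fst {c d : F} (hX : Valid q ((c, d) : F × F)) (hc : c ≠ 0) :
    IsTr q (d / c ^ (q + 1)) ∧
      D.f (c, d) = hdil q ((c ^ q)⁻¹) (D.phi (d / c ^ (q + 1)), D.tau (d / c ^ (q + 1))) := by
  set w := d / c ^ (q + 1) with hw
  have hN : c ^ (q + 1) ≠ 0 := pow_ne_zero _ hc
  have hwT : IsTr q w := by
    unfold IsTr
    rw [hw, div_pow, norm_fixed_q hF, ← add_div, show d + d ^ q = c ^ (q + 1) from hX, div_self hN]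
  refine ⟨hwT, ?_⟩
  have e : ((c, d) : F × F) = hdil q c (1, w) := by
    simp only [hdil, mul_one, hw]
    rw [mul_div_cancel₀ _ hN]
  rw [e, D.f_hdil hF (valid_tr hF hwT) (ne_of_fst_one hF) hc]
  rfl

/-- The relations along the points `(1, v + r)`. -/
theorem shift_relation {v : F} (hv : IsTr q v) :
    ∃ c₁ c₂ β : F, (c₁, c₂) = hinv q (D.f (1, v ^ q)) ∧ c₁ ≠ 0 ∧ β ≠ 0 ∧
      (∀ r : F, r ^ q = r → r ≠ 0 → IsTr q ((c₂ + r⁻¹) / c₁ ^ (q + 1)) ∧
        D.phi (v + r) = D.phi v + β * D.phi ((c₂ + r⁻¹) / c₁ ^ (q + 1)) ∧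
        D.tau (v + r) = D.tau v + β ^ (q + 1) * D.tau ((c₂ + r⁻¹) / c₁ ^ (q + 1)) +
          D.phi v * (β * D.phi ((c₂ + r⁻¹) / c₁ ^ (q + 1))) ^ q) ∧
      IsTr q (c₂ / c₁ ^ (q + 1)) ∧ D.phi v + β * D.phi (c₂ / c₁ ^ (q + 1)) = 0 ∧
        D.tau v + β ^ (q + 1) * D.tau (c₂ / c₁ ^ (q + 1)) +
          D.phi v * (β * D.phi (c₂ / c₁ ^ (q + 1))) ^ q = 0 := by
  have hX := valid_tr hF hv
  obtain ⟨l, e0, hrel⟩ := D.f_rel hF hX (ne_of_fst_one hF)
  have hvq : IsTr q (v ^ q) := by rw [tr_pow hF hv]; exact tr_succ hF hv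
  set C := hinv q (D.f (hinv q ((1, v) : F × F))) with hC
  have hC' : C = hinv q (D.f (1, v ^ q)) := rfl
  obtain ⟨⟨c₁, c₂⟩, hc⟩ : ∃ c : F × F, c = C := ⟨C, rfl⟩
  have hc₁ : c₁ = D.phi (v ^ q) := by rw [show c₁ = C.1 from congrArg Prod.fst hc]; rfl
  have hc0 : c₁ ≠ 0 := hc₁ ▸ D.phi_ne hF h1 hvq
  have hCv : Valid q ((c₁, c₂) : F × F) := by
    rw [hc, hC']; exact valid_hinv hF (D.f_valid hF (valid_tr hF hvq) (ne_of_fst_one hF))
  rw [← hc] at e0 hrel
  refine ⟨c₁, c₂, (l : F) * (c₁ ^ q)⁻¹, hc.trans hC', hc0,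
    mul_ne_zero l.ne_zero (inv_ne_zero (pow_ne_zero _ hc0)), fun r hr hr0 => ?_, ?_⟩
  · have hY := valid_centre hF hr
    have hY0 : ((0, r) : F × F) ≠ (0, 0) := fun e => hr0 (congrArg Prod.snd e)
    have hprod : hmul q ((1, v) : F × F) (0, r) = (1, v + r) := by simp [hmul, qne hF]
    have hCr : hmul q (c₁, c₂) (D.f (0, r)) = (c₁, c₂ + r⁻¹) := by
      rw [D.f_centre hF h1 hr hr0]; simp [hmul, qne hF]
    have hCrv : Valid q ((c₁, c₂ + r⁻¹) : F × F) := by
      rw [← hCr]; exact valid_hmul hF hCv (D.f_valid hF hY hY0)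
    obtain ⟨hw, hfw⟩ := D.f_of_fst hF h1 hCrv hc0
    have h := hrel (0, r) hY hY0 (by rw [hCr]; exact fun e => hc0 (congrArg Prod.fst e))
    rw [hprod, hCr, hfw, hdil_hdil] at h
    exact ⟨hw, congrArg Prod.fst h, congrArg Prod.snd h⟩
  · obtain ⟨hw, hfw⟩ := D.f_of_fst hF h1 hCv hc0
    rw [hfw, hdil_hdil] at e0
    exact ⟨hw, congrArg Prod.fst e0, congrArg Prod.snd e0⟩

theorem phi_inj {v v' : F} (hv : IsTr q v) (hv' : IsTr q v') (h : D.phi v = D.phi v') : v = v' := by
  by_contra hne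
  set r := v' - v with hr
  have hr0 : r ≠ 0 := sub_ne_zero.2 (Ne.symm hne)
  have hrq : r ^ q = r := by
    rw [hr, CharTwo.sub_eq_add, qadd hF, tr_pow hF hv, tr_pow hF hv']
    linear_combination CharTwo.two_eq_zero (R := F)
  obtain ⟨c₁, c₂, β, -, -, hβ, hs, -⟩ := D.shift_relation hF h1 hv
  obtain ⟨hw, e, -⟩ := hs r hrq hr0
  rw [show v + r = v' by rw [hr]; ring, ← h, left_eq_add] at e
  exact mul_ne_zero hβ (D.phi_ne hF h1 hw) e

open _root_.Classical in
/-- The first coordinates, with `0`. -/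
noncomputable def oSet : Finset F :=
  insert 0 ((Finset.univ.filter (fun v => IsTr q v)).image D.phi)

omit hF h1 in
theorem mem_oSet {x : F} : x ∈ D.oSet ↔ x = 0 ∨ ∃ v, IsTr q v ∧ D.phi v = x := by
  simp [oSet]

theorem card_oSet : D.oSet.card = q + 1 := by
  classical
  rw [oSet, Finset.card_insert_of_notMem, Finset.card_image_of_injOn, card_tr hF]
  · intro v hv v' hv' h
    simp only [Finset.coe_filter, Finset.mem_univ, true_and, Set.mem_ofPred_eq] at hv hv'
    exact D.phi_inj hF h1 hv hv' h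
  · simp only [Finset.mem_image, Finset.mem_filter, Finset.mem_univ, true_and, not_exists, not_and]
    exact fun v hv => D.phi_ne hF h1 hv

/-- The excess of the second coordinate over that on the line, as a function of the first. -/
theorem exists_affine {v : F} (hv : IsTr q v) :
    ∃ β : F, β ≠ 0 ∧ (∀ x ∈ D.oSet, D.phi v + β * x ∈ D.oSet) ∧
      ∀ w, IsTr q w →
        (∃ w', IsTr q w' ∧ D.phi w' = D.phi v + β * D.phi w ∧
          D.tau w' = D.tau v + β ^ (q + 1) * D.tau w + D.phi v * (β * D.phi w) ^ q) ∨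
        (D.phi v + β * D.phi w = 0 ∧
          D.tau v + β ^ (q + 1) * D.tau w + D.phi v * (β * D.phi w) ^ q = 0) := by
  obtain ⟨c₁, c₂, β, -, hc0, hβ, hs, hw₀, e₁, e₂⟩ := D.shift_relation hF h1 hv
  have key : ∀ w, IsTr q w →
      (∃ w', IsTr q w' ∧ D.phi w' = D.phi v + β * D.phi w ∧
          D.tau w' = D.tau v + β ^ (q + 1) * D.tau w + D.phi v * (β * D.phi w) ^ q) ∨
        (D.phi v + β * D.phi w = 0 ∧
          D.tau v + β ^ (q + 1) * D.tau w + D.phi v * (β * D.phi w) ^ q = 0) := by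
    intro w hw
    set N := c₁ ^ (q + 1) with hN
    have hN0 : N ≠ 0 := pow_ne_zero _ hc0
    set s := c₂ + N * w with hs'
    have hc₂ : c₂ / N + (c₂ / N) ^ q = 1 := hw₀
    rw [div_pow, norm_fixed_q hF, ← add_div, div_eq_one_iff_eq hN0] at hc₂
    have hsq : s ^ q = s := by
      rw [hs', qadd hF, mul_pow, norm_fixed_q hF, tr_pow hF hw]
      linear_combination hc₂ + N * (CharTwo.two_eq_zero (R := F)) - c₂ * (CharTwo.two_eq_zero (R := F))
    by_cases hs0 : s = 0
    · right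
      have : w = c₂ / N := by
        rw [eq_div_iff hN0]
        linear_combination hs0 - c₂ * (CharTwo.two_eq_zero (R := F))
      rw [this]; exact ⟨e₁, e₂⟩
    · left
      obtain ⟨-, a1, a2⟩ := hs s⁻¹ (by rw [inv_pow, hsq]) (inv_ne_zero hs0)
      have : (c₂ + s⁻¹⁻¹) / N = w := by
        rw [inv_inv, div_eq_iff hN0, hs']
        linear_combination c₂ * (CharTwo.two_eq_zero (R := F))
      rw [this] at a1 a2
      exact ⟨v + s⁻¹, tr_add hF hv (by rw [inv_pow, hsq]), a1, a2⟩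
  refine ⟨β, hβ, fun x hx => ?_, key⟩
  rcases (D.mem_oSet).1 hx with rfl | ⟨w, hw, rfl⟩
  · rw [mul_zero, add_zero]; exact (D.mem_oSet).2 (Or.inr ⟨v, hv, rfl⟩)
  · rcases key w hw with ⟨w', hw', e, -⟩ | ⟨e, -⟩
    · exact (D.mem_oSet).2 (Or.inr ⟨w', hw', e⟩)
    · exact (D.mem_oSet).2 (Or.inl e)

/-- The sum of the set. -/
noncomputable def centre : F := ∑ x ∈ D.oSet, x

omit hF h1 in
theorem affine_bij {c β : F} (hβ : β ≠ 0) {O : Finset F} (hm : ∀ x ∈ O, c + β * x ∈ O) :
    Set.BijOn (fun x => c + β * x) (O : Set F) (O : Set F) := by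
  refine Set.Finite.injOn_iff_bijOn_of_mapsTo O.finite_toSet (fun x hx => hm x hx) |>.1 ?_
  intro a _ b _ h
  exact mul_left_cancel₀ hβ (add_left_cancel h)

theorem cast_card_oSet : (D.oSet.card : F) = 1 := by
  rw [D.card_oSet hF h1]
  obtain ⟨k, hk⟩ := even_q hF
  rw [hk, Nat.cast_add, Nat.cast_add, CharTwo.add_self_eq_zero, Nat.cast_one, zero_add]

theorem phi_eq_centre {v β : F} (hβ : β ≠ 0) (hm : ∀ x ∈ D.oSet, D.phi v + β * x ∈ D.oSet) :
    D.phi v = D.centre * (1 + β) := by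
  have hb := affine_bij hβ hm
  have h : ∑ x ∈ D.oSet, (D.phi v + β * x) = D.centre :=
    Finset.sum_nbij (fun x => D.phi v + β * x) hm hb.injOn hb.surjOn fun _ _ => rfl
  rw [Finset.sum_add_distrib, Finset.sum_const, nsmul_eq_mul, D.cast_card_oSet hF h1, one_mul,
    ← Finset.mul_sum] at h
  have h' : D.phi v + β * D.centre = D.centre := h
  linear_combination h' - β * D.centre * (CharTwo.two_eq_zero (R := F))

theorem centre_ne : D.centre ≠ 0 := by
  intro h0
  obtain ⟨v, hv⟩ := exists_trace hF (one_pow q)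
  obtain ⟨β, hβ, hm, -⟩ := D.exists_affine hF h1 hv
  exact D.phi_ne hF h1 hv (by rw [D.phi_eq_centre hF h1 hβ hm, h0, zero_mul])

theorem beta_norm {v β : F} (_hv : IsTr q v) (hβ : β ≠ 0)
    (hm : ∀ x ∈ D.oSet, D.phi v + β * x ∈ D.oSet) : β ^ (q + 1) = 1 := by
  classical
  have hb := affine_bij hβ hm
  set S := D.centre with hS
  have hne : ∀ x ∈ D.oSet, x + S ≠ 0 := by
    intro x hx e
    rcases (D.mem_oSet).1 hx with rfl | ⟨w, hw, rfl⟩
    · exact D.centre_ne hF h1 (by rwa [zero_add] at e)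
    · obtain ⟨γ, hγ, hm', -⟩ := D.exists_affine hF h1 hw
      rw [D.phi_eq_centre hF h1 hγ hm'] at e
      have : S * γ = 0 := by linear_combination e - S * (CharTwo.two_eq_zero (R := F))
      rcases mul_eq_zero.1 this with h | h
      · exact D.centre_ne hF h1 h
      · exact hγ h
  have hP : ∏ x ∈ D.oSet, (x + S) ≠ 0 := Finset.prod_ne_zero_iff.2 hne
  have h : ∏ x ∈ D.oSet, (β * (x + S)) = ∏ x ∈ D.oSet, (x + S) := by
    refine Finset.prod_nbij (fun x => D.phi v + β * x) hm hb.injOn hb.surjOn fun x _ => ?_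
    rw [D.phi_eq_centre hF h1 hβ hm]
    linear_combination -S * (CharTwo.two_eq_zero (R := F))
  rw [Finset.prod_mul_distrib, Finset.prod_const, D.card_oSet hF h1] at h
  exact (mul_eq_right₀ hP).1 h

/-- The points `(φ, τ)` lie on the line `τ = S φ^q`. -/
theorem tau_eq {v : F} (hv : IsTr q v) : D.tau v = D.centre * D.phi v ^ q := by
  classical
  set S := D.centre
  have hex : ∀ x, ∃ y : F, (x = 0 → y = 0) ∧
      ∀ w, IsTr q w → D.phi w = x → y = D.tau w + S * D.phi w ^ q := by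
    intro x
    by_cases hx : ∃ w, IsTr q w ∧ D.phi w = x
    · obtain ⟨w, hw, rfl⟩ := hx
      exact ⟨_, fun h0 => absurd h0 (D.phi_ne hF h1 hw),
        fun w' hw' e => by rw [D.phi_inj hF h1 hw' hw e]⟩
    · exact ⟨0, fun _ => rfl, fun w hw e => absurd ⟨w, hw, e⟩ hx⟩
  choose d hd0 hd using hex
  obtain ⟨β, hβ, hm, hpts⟩ := D.exists_affine hF h1 hv
  have hN := D.beta_norm hF h1 hv hβ hm
  have hc := D.phi_eq_centre hF h1 hβ hm
  have hadd : ∀ x ∈ D.oSet, d (D.phi v + β * x) = d (D.phi v) + d x := by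
    intro x hx
    rcases (D.mem_oSet).1 hx with rfl | ⟨w, hw, rfl⟩
    · rw [mul_zero, add_zero, hd0 0 rfl, add_zero]
    · have hval : d (D.phi v + β * D.phi w) =
          D.tau v + β ^ (q + 1) * D.tau w + D.phi v * (β * D.phi w) ^ q +
            S * (D.phi v + β * D.phi w) ^ q := by
        rcases hpts w hw with ⟨w', hw', a1, a2⟩ | ⟨a1, a2⟩
        · rw [hd _ w' hw' a1, a2, a1]
        · rw [hd0 _ a1, a2, a1, zero_pow (qne hF), mul_zero, add_zero]
      have hN' : β ^ q * β = 1 := by rw [← pow_succ, hN]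
      rw [hval, hd _ v hv rfl, hd _ w hw rfl, hN, one_mul, qadd hF, mul_pow]
      linear_combination (β ^ q * D.phi w ^ q) * hc + (S * D.phi w ^ q) * hN' +
        (S * β ^ q * D.phi w ^ q) * (CharTwo.two_eq_zero (R := F))
  have hb := affine_bij hβ hm
  have h : ∑ x ∈ D.oSet, d (D.phi v + β * x) = ∑ x ∈ D.oSet, d x :=
    Finset.sum_nbij (fun x => D.phi v + β * x) hm hb.injOn hb.surjOn fun _ _ => rfl
  rw [Finset.sum_congr rfl hadd, Finset.sum_add_distrib, Finset.sum_const, nsmul_eq_mul,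
    D.cast_card_oSet hF h1, one_mul, add_eq_right, hd _ v hv rfl] at h
  exact CharTwo.add_eq_zero.1 h

theorem mul_phi {v : F} (hv : IsTr q v) : v * D.phi v ^ q = D.centre := by
  set S := D.centre
  set φ := D.phi v with hφ
  have hφ0 : φ ≠ 0 := D.phi_ne hF h1 hv
  have hX := valid_tr hF hv
  have hA : Valid q ((φ, D.tau v) : F × F) := D.f_valid hF hX (ne_of_fst_one hF)
  obtain ⟨hw, hfw⟩ := D.f_of_fst hF h1 hA hφ0
  have hff : D.f (φ, D.tau v) = (1, v) := D.f_f hF hX (ne_of_fst_one hF)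
  rw [hfw] at hff
  set w := D.tau v / φ ^ (q + 1)
  have hq0 : φ ^ q ≠ 0 := pow_ne_zero _ hφ0
  have e1 : (φ ^ q)⁻¹ * D.phi w = 1 := congrArg Prod.fst hff
  have e2 : ((φ ^ q)⁻¹) ^ (q + 1) * D.tau w = v := congrArg Prod.snd hff
  have hpw : D.phi w = φ ^ q := by
    rw [inv_mul_eq_one₀ hq0] at e1; exact e1.symm
  rw [D.tau_eq hF h1 hw, hpw, Forms.pow_q_pow_q hF, inv_pow, pow_succ (φ ^ q) q,
    Forms.pow_q_pow_q hF] at e2
  field_simp at e2
  rw [mul_comm]
  exact e2.symm

theorem centre_pow : D.centre ^ q = D.centre := by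
  set S := D.centre
  have hS := D.centre_ne hF h1
  have key : ∀ v, IsTr q v → S * S * (v + 1) + S ^ q * S ^ q * v = S * S ^ q := by
    intro v hv
    have e : v * D.phi v ^ q = S := D.mul_phi hF h1 hv
    have e' : v ^ q * D.phi v = S ^ q := by rw [← e, mul_pow, Forms.pow_q_pow_q hF]
    have hA : S * D.phi v ^ q + S ^ q * D.phi v = D.phi v ^ q * D.phi v := by
      have hA := D.phi_tau_valid hF h1 hv
      rwa [D.tau_eq hF h1 hv, mul_pow, Forms.pow_q_pow_q hF, pow_succ] at hA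
    have e3 : (S * v ^ q) * (v * D.phi v ^ q) + (S ^ q * v) * (v ^ q * D.phi v) =
        (v * D.phi v ^ q) * (v ^ q * D.phi v) := by linear_combination (v * v ^ q) * hA
    rw [e, e', tr_pow hF hv] at e3
    linear_combination e3
  obtain ⟨v, hv⟩ := exists_trace hF (one_pow q)
  have a := key v hv
  have b := key (v + 1) (tr_succ hF hv)
  have h : (S + S ^ q) * (S + S ^ q) = 0 := by
    linear_combination b - a + (S * S ^ q) * (CharTwo.two_eq_zero (R := F))
  exact (CharTwo.add_eq_zero.1 (mul_self_eq_zero.1 h)).symm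

theorem phi_formula {v : F} (hv : IsTr q v) :
    D.phi v = D.centre / v ^ q ∧ D.tau v = D.centre * D.centre / v := by
  have hv0 := tr_ne_zero hF hv
  have e := D.mul_phi hF h1 hv
  have e' : v ^ q * D.phi v = D.centre := by
    rw [← D.centre_pow hF h1, ← e, mul_pow, Forms.pow_q_pow_q hF]
  refine ⟨?_, ?_⟩
  · rw [eq_div_iff (pow_ne_zero _ hv0), mul_comm, e']
  · rw [D.tau_eq hF h1 hv, eq_div_iff hv0]
    linear_combination D.centre * e

theorem centre_eq_one : D.centre = 1 := by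
  obtain ⟨v, hv⟩ := exists_trace hF (one_pow q)
  have hv' : IsTr q v := hv
  set S := D.centre with hS
  have hS0 : S ≠ 0 := D.centre_ne hF h1
  have hSq : S ^ q = S := D.centre_pow hF h1
  have hv0 := tr_ne_zero hF hv'
  have hvq0 : v ^ q ≠ 0 := pow_ne_zero _ hv0
  have hT := tr_pow hF hv'
  have hvT : IsTr q (v ^ q) := by rw [hT]; exact tr_succ hF hv'
  obtain ⟨c₁, c₂, β, hc, hc0, hβ, hs, hw₀, e₁, -⟩ := D.shift_relation hF h1 hv'
  obtain ⟨p1, p2⟩ := D.phi_formula hF h1 hvT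
  have hc₁ : c₁ = S / v := by
    rw [show c₁ = D.phi (v ^ q) from congrArg Prod.fst hc, p1, Forms.pow_q_pow_q hF]
  have hc₂ : c₂ = S * S / v := by
    rw [show c₂ = D.tau (v ^ q) ^ q from congrArg Prod.snd hc, p2, div_pow, mul_pow, hSq,
      Forms.pow_q_pow_q hF]
  have hN : c₁ ^ (q + 1) = S * S / (v ^ q * v) := by
    rw [hc₁, pow_succ, div_pow, hSq, div_mul_div_comm]
  have hw₀' : c₂ / c₁ ^ (q + 1) = v ^ q := by
    rw [hN, hc₂]
    field_simp
  rw [hw₀', (D.phi_formula hF h1 hv').1, p1, Forms.pow_q_pow_q hF] at e₁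
  have hβ' : β * v ^ q = v := by
    field_simp at e₁
    have h : v + v ^ q * β = 0 := by
      rw [mul_zero] at e₁
      exact (mul_eq_zero.1 e₁).resolve_left (D.centre_ne hF h1)
    linear_combination h - v * (CharTwo.two_eq_zero (R := F))
  obtain ⟨hw, e, -⟩ := hs 1 (one_pow q) one_ne_zero
  rw [inv_one] at hw e
  set w := (c₂ + 1) / c₁ ^ (q + 1) with hwdef
  have hwv : w = (S * S + v) * v ^ q / (S * S) := by
    rw [hwdef, hN, hc₂]
    field_simp
  have hw0 : w ^ q ≠ 0 := pow_ne_zero _ (tr_ne_zero hF hw)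
  have hv1q : (v + 1) ^ q = v := by
    rw [qadd hF, hT, one_pow]; linear_combination CharTwo.two_eq_zero (R := F)
  rw [(D.phi_formula hF h1 hw).1, (D.phi_formula hF h1 hv').1,
    (D.phi_formula hF h1 (tr_succ hF hv')).1, hv1q] at e
  have hwq : w ^ q = v * v := by
    field_simp at e
    have : S * (w ^ q - v * v) = 0 := by
      rw [← hS] at e
      linear_combination e + S * v * hβ' - S * w ^ q * hT
    rcases mul_eq_zero.1 this with h | h
    · exact absurd h hS0
    · exact sub_eq_zero.1 h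
  have hw2 : w = v ^ q * v ^ q := by
    rw [← Forms.pow_q_pow_q hF w, hwq, mul_pow]
  rw [hwv, div_eq_iff (mul_ne_zero hS0 hS0)] at hw2
  have h3 : S * S + v = v ^ q * (S * S) := by
    refine mul_right_cancel₀ hvq0 ?_
    linear_combination hw2
  rw [hT] at h3
  have h4 : v * (1 - S * S) = 0 := by linear_combination h3
  rcases mul_eq_zero.1 h4 with h | h
  · exact absurd h hv0
  · have h5 : (S - 1) * (S - 1) = 0 := by
      linear_combination (-1) * h + (1 - S) * (CharTwo.two_eq_zero (R := F))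
    exact sub_eq_zero.1 (mul_self_eq_zero.1 h5)

/-- The formula. -/
theorem f_formula {X : F × F} (hX : Valid q X) (h0 : X ≠ (0, 0)) :
    D.f X = (X.1 / X.2 ^ q, 1 / X.2) := by
  obtain ⟨b, c⟩ := X
  by_cases hb : b = 0
  · subst hb
    have hc : c + c ^ q = (0 : F) ^ (q + 1) := hX
    rw [zero_pow (Nat.succ_ne_zero q)] at hc
    rw [D.f_centre hF h1 (CharTwo.add_eq_zero.1 hc).symm (fun e => h0 (by rw [e])), zero_div, one_div]
  · obtain ⟨hw, hfw⟩ := D.f_of_fst hF h1 hX hb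
    obtain ⟨p1, p2⟩ := D.phi_formula hF h1 hw
    rw [hfw, p1, p2, D.centre_eq_one hF h1, mul_one]
    have hN : b ^ (q + 1) ≠ 0 := pow_ne_zero _ hb
    have hc0 : c ≠ 0 := fun e => by
      have h : c + c ^ q = b ^ (q + 1) := hX
      rw [e, zero_pow (qne hF), add_zero] at h
      exact hN h.symm
    refine Prod.ext ?_ ?_
    · show (b ^ q)⁻¹ * (1 / (c / b ^ (q + 1)) ^ q) = b / c ^ q
      rw [div_pow, norm_fixed_q hF, pow_succ]
      field_simp
    · show ((b ^ q)⁻¹) ^ (q + 1) * (1 / (c / b ^ (q + 1))) = 1 / c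
      rw [inv_pow, pow_succ (b ^ q), Forms.pow_q_pow_q hF, pow_succ]
      field_simp

end Cfsg.Agent.Lib.UThreeTwoRecog26.UFrame
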