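import Cfsg.Agent.Lib.UThreeTwoRecog26.Stab

/-!
A group acting on `q³ + 1` points with coordinates: the kernel `Q` is parametrised by the pairs
`(b, c)` with `c + c^q = b^(q+1)`, the two-point stabiliser by the units of the field.
-/

set_option autoImplicit false
set_option linter.unusedSectionVars false
set_option linter.style.haveILetI false

namespace Cfsg.Agent.Lib.UThreeTwoRecog26

open MulAction

section Ops

variable {F : Type*} [Field F]

/-- The pairs of the unipotent group. -/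
def Valid (q : ℕ) (X : F × F) : Prop := X.2 + X.2 ^ q = X.1 ^ (q + 1)

/-- Their product. -/
def hmul (q : ℕ) (X Y : F × F) : F × F := (X.1 + Y.1, X.2 + Y.2 + X.1 * Y.1 ^ q)

/-- Their inverse. -/
def hinv (q : ℕ) (X : F × F) : F × F := (X.1, X.2 ^ q)

/-- The dilations. -/
def hdil (q : ℕ) (l : F) (X : F × F) : F × F := (l * X.1, l ^ (q + 1) * X.2)

variable {q : ℕ}

theorem hdil_hdil (l k : F) (X : F × F) : hdil q l (hdil q k X) = hdil q (l * k) X :=
  Prod.ext (by simp [hdil, mul_assoc]) (by simp [hdil, mul_pow, mul_assoc])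

theorem hdil_one (X : F × F) : hdil q 1 X = X := by simp [hdil]

variable [Fintype F] [CharP F 2] (hF : Fintype.card F = q ^ 2)
include hF

theorem valid_zero : Valid q ((0, 0) : F × F) := by simp [Valid, qne hF]

theorem valid_hmul {X Y : F × F} (hX : Valid q X) (hY : Valid q Y) : Valid q (hmul q X Y) := by
  unfold Valid hmul at *
  simp only [qadd hF, mul_pow, Forms.pow_q_pow_q hF, pow_succ] at *
  linear_combination hX + hY

theorem valid_hinv {X : F × F} (hX : Valid q X) : Valid q (hinv q X) := by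
  unfold Valid hinv at *
  rw [Forms.pow_q_pow_q hF]
  rw [add_comm]; exact hX

theorem valid_hdil {X : F × F} (hX : Valid q X) (l : F) : Valid q (hdil q l X) := by
  unfold Valid hdil at *
  have hl : (l ^ (q + 1)) ^ q = l ^ (q + 1) := by
    rw [pow_succ, mul_pow, Forms.pow_q_pow_q hF, mul_comm]
  rw [mul_pow, hl, mul_pow, ← mul_add, hX]

theorem hinv_hinv (X : F × F) : hinv q (hinv q X) = X :=
  Prod.ext rfl (Forms.pow_q_pow_q hF X.2)

theorem hmul_hinv {X : F × F} (hX : Valid q X) : hmul q X (hinv q X) = (0, 0) := by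
  refine Prod.ext (CharTwo.add_self_eq_zero X.1) ?_
  show X.2 + X.2 ^ q + X.1 * X.1 ^ q = 0
  rw [hX, pow_succ', CharTwo.add_self_eq_zero]

theorem hmul_zero (X : F × F) : hmul q X (0, 0) = X := by simp [hmul, qne hF]

theorem zero_hmul (X : F × F) : hmul q (0, 0) X = X := by simp [hmul]

end Ops

/-- The coordinates. -/
structure UFrame (G Ω F : Type*) [Group G] [MulAction G Ω] [Field F] [Fintype F] (q : ℕ) where
  a : Ω
  t : G
  u : F × F → G
  hh : Fˣ →* G
  t_sq : t * t = 1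
  t_move : t • a ≠ a
  u_mul : ∀ X Y, Valid q X → Valid q Y → u X * u Y = u (hmul q X Y)
  u_fix : ∀ X, Valid q X → u X • a = a
  u_reg : ∀ c, c ≠ a → ∃! X, Valid q X ∧ u X • (t • a) = c
  hh_a : ∀ l, hh l • a = a
  hh_b : ∀ l, hh l • (t • a) = t • a
  hh_all : ∀ g : G, g • a = a → g • (t • a) = t • a → ∃ l, hh l = g
  hh_conj : ∀ (l : Fˣ) X, Valid q X → hh l * u X = u (hdil q (l : F) X) * hh l
  t_hh : ∀ l, t * hh l = hh ((l ^ q)⁻¹) * t

namespace UFrame

variable {G Ω F : Type*} [Group G] [MulAction G Ω] [Field F] [Fintype F] [CharP F 2] {q : ℕ}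
variable (D : UFrame G Ω F q) (hF : Fintype.card F = q ^ 2)

/-- The point with coordinates `X`. -/
def pt (X : F × F) : Ω := D.u X • (D.t • D.a)

theorem t_t (c : Ω) : D.t • D.t • c = c := by rw [smul_smul, D.t_sq, one_smul]

theorem t_inv : D.t⁻¹ = D.t := inv_eq_of_mul_eq_one_right D.t_sq

theorem pt_ne {X : F × F} (hX : Valid q X) : D.pt X ≠ D.a := fun e =>
  D.t_move (smul_left_cancel (D.u X) (e.trans (D.u_fix X hX).symm))

theorem pt_inj {X Y : F × F} (hX : Valid q X) (hY : Valid q Y) (h : D.pt X = D.pt Y) : X = Y :=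
  (D.u_reg _ (D.pt_ne hX)).unique ⟨hX, rfl⟩ ⟨hY, h.symm⟩

theorem exists_pt {c : Ω} (hc : c ≠ D.a) : ∃ X, Valid q X ∧ D.pt X = c := (D.u_reg c hc).exists

include hF

theorem u_zero : D.u (0, 0) = 1 := by
  have h := D.u_mul _ _ (valid_zero hF) (valid_zero hF)
  rw [hmul_zero hF] at h
  exact mul_eq_left.1 h

theorem pt_zero : D.pt (0, 0) = D.t • D.a := by rw [pt, D.u_zero hF, one_smul]

theorem u_inv {X : F × F} (hX : Valid q X) : (D.u X)⁻¹ = D.u (hinv q X) :=
  inv_eq_of_mul_eq_one_right (by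
    rw [D.u_mul _ _ hX (valid_hinv hF hX), hmul_hinv hF hX, D.u_zero hF])

theorem u_pt {X Y : F × F} (hX : Valid q X) (hY : Valid q Y) :
    D.u X • D.pt Y = D.pt (hmul q X Y) := by
  rw [pt, pt, smul_smul, D.u_mul _ _ hX hY]

theorem hh_pt (l : Fˣ) {X : F × F} (hX : Valid q X) : D.hh l • D.pt X = D.pt (hdil q (l : F) X) := by
  rw [pt, pt, smul_smul, D.hh_conj l X hX, mul_smul, D.hh_b]

theorem t_pt_ne {X : F × F} (hX : Valid q X) (h0 : X ≠ (0, 0)) : D.t • D.pt X ≠ D.a := fun e => by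
  refine h0 (D.pt_inj hX (valid_zero hF) ?_)
  rw [D.pt_zero hF, ← e, D.t_t]

theorem exists_of_fix {g : G} (h : g • D.a = D.a) :
    ∃ X l, Valid q X ∧ g = D.hh l * D.u X := by
  have hb : g⁻¹ • D.t • D.a ≠ D.a := fun e => D.t_move (by
    rw [inv_smul_eq_iff, h] at e; exact e)
  obtain ⟨X, hX, he⟩ := D.exists_pt hb
  obtain ⟨l, hl⟩ := D.hh_all (g * D.u X) (by rw [mul_smul, D.u_fix X hX, h])
    (by rw [mul_smul, show D.u X • D.t • D.a = g⁻¹ • D.t • D.a from he, smul_inv_smul])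
  exact ⟨hinv q X, l, valid_hinv hF hX, by rw [← D.u_inv hF hX, hl, mul_inv_cancel_right]⟩

open _root_.Classical in
/-- The coordinates of the image of a point under `t`. -/
noncomputable def f (X : F × F) : F × F :=
  if h : ∃ Y, Valid q Y ∧ D.pt Y = D.t • D.pt X then h.choose else (0, 0)

theorem f_spec {X : F × F} (hX : Valid q X) (h0 : X ≠ (0, 0)) :
    Valid q (D.f X) ∧ D.pt (D.f X) = D.t • D.pt X := by
  have h := D.exists_pt (D.t_pt_ne hF hX h0)
  rw [f, dif_pos h]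
  exact h.choose_spec

theorem f_valid {X : F × F} (hX : Valid q X) (h0 : X ≠ (0, 0)) : Valid q (D.f X) :=
  (D.f_spec hF hX h0).1

theorem f_pt {X : F × F} (hX : Valid q X) (h0 : X ≠ (0, 0)) : D.pt (D.f X) = D.t • D.pt X :=
  (D.f_spec hF hX h0).2

theorem f_eq {X Y : F × F} (hX : Valid q X) (h0 : X ≠ (0, 0)) (hY : Valid q Y)
    (h : D.t • D.pt X = D.pt Y) : D.f X = Y :=
  D.pt_inj (D.f_valid hF hX h0) hY ((D.f_pt hF hX h0).trans h)

theorem f_ne {X : F × F} (hX : Valid q X) (h0 : X ≠ (0, 0)) : D.f X ≠ (0, 0) := fun e => by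
  have h := D.f_pt hF hX h0
  rw [e, D.pt_zero hF] at h
  exact D.pt_ne hX (smul_left_cancel D.t h).symm

theorem f_f {X : F × F} (hX : Valid q X) (h0 : X ≠ (0, 0)) : D.f (D.f X) = X :=
  D.f_eq hF (D.f_valid hF hX h0) (D.f_ne hF hX h0) hX (by rw [D.f_pt hF hX h0, D.t_t])

theorem hdil_ne {X : F × F} {l : F} (hl : l ≠ 0) (h0 : X ≠ (0, 0)) : hdil q l X ≠ (0, 0) := by
  intro e
  have h1 := congrArg Prod.fst e
  have h2 := congrArg Prod.snd e
  simp only [hdil, mul_eq_zero, hl, false_or, pow_eq_zero_iff', false_and] at h1 h2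
  exact h0 (Prod.ext h1 h2)

theorem f_hdil {X : F × F} (hX : Valid q X) (h0 : X ≠ (0, 0)) {l : F} (hl : l ≠ 0) :
    D.f (hdil q l X) = hdil q ((l ^ q)⁻¹) (D.f X) := by
  refine D.f_eq hF (valid_hdil hF hX l) (hdil_ne hF hl h0) (valid_hdil hF (D.f_valid hF hX h0) _) ?_
  have h := D.hh_pt hF (Units.mk0 l hl) hX
  rw [Units.val_mk0] at h
  rw [← h, smul_smul, D.t_hh, mul_smul, ← D.f_pt hF hX h0, D.hh_pt hF _ (D.f_valid hF hX h0)]
  congr 2
  simp

/-- The rewriting relation `t u(X) t = u(f X) h(l) t u(C)` and what follows from it. -/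
theorem exists_rel {X : F × F} (hX : Valid q X) (h0 : X ≠ (0, 0)) :
    ∃ l : Fˣ, D.t * D.u X * D.t =
      D.u (D.f X) * D.hh l * D.t * D.u (hinv q (D.f (hinv q X))) := by
  set g := D.t * D.u X * D.t with hg
  have hga : g • D.a = D.pt (D.f X) := by
    rw [D.f_pt hF hX h0, hg, mul_smul, mul_smul, pt]
  have hfix : (D.t * (D.u (D.f X))⁻¹ * g) • D.a = D.a := by
    rw [mul_smul, mul_smul, hga, pt, inv_smul_smul, D.t_t]
  obtain ⟨C, l, hC, e⟩ := D.exists_of_fix hF hfix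
  have e' : g = D.u (D.f X) * D.hh ((l ^ q)⁻¹) * D.t * D.u C := by
    calc g = D.u (D.f X) * D.t * (D.t * (D.u (D.f X))⁻¹ * g) := by
          rw [show D.u (D.f X) * D.t * (D.t * (D.u (D.f X))⁻¹ * g) =
            D.u (D.f X) * (D.t * D.t) * (D.u (D.f X))⁻¹ * g by group, D.t_sq]
          group
      _ = D.u (D.f X) * (D.t * D.hh l) * D.u C := by rw [e]; group
      _ = _ := by rw [D.t_hh]; group
  refine ⟨(l ^ q)⁻¹, ?_⟩
  -- compare the images of `a` under the inverse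
  have hX' : hinv q X ≠ (0, 0) := fun h => h0 (by
    rw [← hinv_hinv hF X, h]; simp [hinv, qne hF])
  have hinvg : g⁻¹ • D.a = D.pt (hinv q C) := by
    rw [e', mul_inv_rev, mul_inv_rev, mul_inv_rev, D.u_inv hF hC, D.t_inv, ← map_inv, mul_smul,
      mul_smul, mul_smul, inv_smul_eq_iff.2 (D.u_fix _ (D.f_valid hF hX h0)).symm, D.hh_a, pt]
  have hinvg' : g⁻¹ • D.a = D.pt (D.f (hinv q X)) := by
    rw [D.f_pt hF (valid_hinv hF hX) hX', hg, mul_inv_rev, mul_inv_rev, D.t_inv, D.u_inv hF hX,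
      mul_smul, mul_smul, pt]
  have := D.pt_inj (valid_hinv hF hC) (D.f_valid hF (valid_hinv hF hX) hX') (hinvg.symm.trans hinvg')
  rw [← this, hinv_hinv hF]
  exact e'

/-- The functional equation. -/
theorem f_rel {X : F × F} (hX : Valid q X) (h0 : X ≠ (0, 0)) :
    ∃ l : Fˣ, hmul q (D.f X) (hdil q (l : F) (D.f (hinv q (D.f (hinv q X))))) = (0, 0) ∧
      ∀ Y, Valid q Y → Y ≠ (0, 0) →
        hmul q (hinv q (D.f (hinv q X))) (D.f Y) ≠ (0, 0) →
        D.f (hmul q X Y) =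
          hmul q (D.f X) (hdil q (l : F) (D.f (hmul q (hinv q (D.f (hinv q X))) (D.f Y)))) := by
  obtain ⟨l, e⟩ := D.exists_rel hF hX h0
  have hX' : hinv q X ≠ (0, 0) := fun h => h0 (by
    rw [← hinv_hinv hF X, h]; simp [hinv, qne hF])
  set C := hinv q (D.f (hinv q X)) with hCdef
  have hfX := D.f_valid hF (valid_hinv hF hX) hX'
  have hC : Valid q C := valid_hinv hF hfX
  have hC0 : C ≠ (0, 0) := fun h => D.f_ne hF (valid_hinv hF hX) hX' (by
    rw [← hinv_hinv hF (D.f (hinv q X)), ← hCdef, h]; simp [hinv, qne hF])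
  have hA := D.f_valid hF hX h0
  refine ⟨l, ?_, fun Y hY hY0 hne => ?_⟩
  · refine D.pt_inj (valid_hmul hF hA (valid_hdil hF (D.f_valid hF hC hC0) _)) (valid_zero hF) ?_
    have h1 : (D.t * D.u X * D.t) • (D.t • D.a) = D.t • D.a := by
      rw [mul_smul, mul_smul, D.t_t, D.u_fix X hX]
    rw [e, mul_smul, mul_smul, mul_smul, show D.u C • D.t • D.a = D.pt C from rfl,
      ← D.f_pt hF hC hC0, D.hh_pt hF l (D.f_valid hF hC hC0),
      D.u_pt hF hA (valid_hdil hF (D.f_valid hF hC hC0) _)] at h1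
    rw [h1, D.pt_zero hF]
  · have hfY := D.f_valid hF hY hY0
    have hCY := valid_hmul hF hC hfY
    have hXY := valid_hmul hF hX hY
    have h1 : (D.t * D.u X * D.t) • D.pt (D.f Y) = D.t • D.pt (hmul q X Y) := by
      rw [mul_smul, mul_smul, D.f_pt hF hY hY0, D.t_t, D.u_pt hF hX hY]
    rw [e, mul_smul, mul_smul, mul_smul, D.u_pt hF hC hfY, ← D.f_pt hF hCY hne,
      D.hh_pt hF l (D.f_valid hF hCY hne),
      D.u_pt hF hA (valid_hdil hF (D.f_valid hF hCY hne) _)] at h1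
    refine D.f_eq hF hXY (fun h => ?_) (valid_hmul hF hA (valid_hdil hF (D.f_valid hF hCY hne) _))
      h1.symm
    rw [h, D.pt_zero hF, D.t_t] at h1
    exact D.pt_ne (valid_hmul hF hA (valid_hdil hF (D.f_valid hF hCY hne) _)) h1

end UFrame

end Cfsg.Agent.Lib.UThreeTwoRecog26
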