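import Cfsg.Agent.Lib.UThreeTwoRecog26.UAut
import Cfsg.Agent.Lib.UThreeTwoRecog26.UDetermine
import Cfsg.Agent.Lib.UThreeTwoRecog26.Split
import Cfsg.Agent.Lib.UThreeTwoRecog26.AutFix

/-!
The two-point stabiliser acts on the Sylow 2-subgroup, in coordinates, by the dilations, and
`q³ + 1` is the number of points.
-/

set_option autoImplicit false
set_option linter.unusedSectionVars false
set_option linter.style.haveILetI false

namespace Cfsg.Agent.Lib.UThreeTwoRecog26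

universe u v

/-- A centraliser in coordinates. -/
structure Coord {G : Type u} [Group G] {q n : ℕ} (B : Base G q n) (F : Type v) [Field F] [Fintype F]
    [CharP F 2] where
  hF : Fintype.card F = q ^ 2
  emb : ↥(stab F q) →* G
  inj : Function.Injective emb
  mem_C : ∀ g, g ∈ B.C ↔ ∃ y, emb y = g
  mem_P : ∀ y, emb y ∈ B.P ↔ muC y = 1

namespace Coord

variable {G : Type u} [Group G] [Finite G] {q n : ℕ} {B : Base G q n}
variable {F : Type v} [Field F] [Fintype F] [CharP F 2] (W : Coord B F) {t : G}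

theorem emb_mem (y : ↥(stab F q)) : W.emb y ∈ B.C := (W.mem_C _).2 ⟨y, rfl⟩

/-- Coordinates from an isomorphism. -/
theorem nonempty_of_iso (hF : Fintype.card F = q ^ 2)
    (e : ↥(stab F q) ≃* ↥(Subgroup.centralizer ({B.x} : Set G))) : Nonempty (Coord B F) := by
  have hinj : Function.Injective (B.C.subtype.comp e.toMonoidHom) :=
    Subtype.coe_injective.comp e.injective
  set f := B.C.subtype.comp e.toMonoidHom with hf
  have hC : ∀ g, g ∈ B.C ↔ ∃ y, f y = g := fun g =>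
    ⟨fun hg => ⟨e.symm ⟨g, hg⟩, by show ((e (e.symm ⟨g, hg⟩) : B.C) : G) = g; rw [e.apply_symm_apply]⟩,
      by rintro ⟨y, rfl⟩; exact (e y).2⟩
  refine ⟨⟨hF, f, hinj, hC, ?_⟩⟩
  have hle : ∀ y, f y ∈ B.P → muC y = 1 := by
    intro y hy
    obtain ⟨k, hk⟩ := B.toHyp.P_isPGroup B.hP ⟨f y, hy⟩
    have hk' : y ^ 2 ^ k = 1 := hinj (by rw [map_pow, map_one]; simpa using congrArg Subtype.val hk)
    have h1 : muHom hF y ^ 2 ^ k = 1 := by rw [← map_pow, hk', map_one]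
    have h3 : (muHom hF y - 1) ^ 2 ^ k = 0 := by rw [sub_pow_char_pow, h1, one_pow, sub_self]
    exact sub_eq_zero.1 (eq_zero_of_pow_eq_zero h3)
  have hcard : Nat.card ((unip hF).map f) = Nat.card B.P := by
    rw [← Nat.card_congr (Subgroup.equivMapOfInjective _ f hinj).toEquiv, card_unip hF, B.hP.card_P]
  have hsub : B.P ≤ (unip hF).map f := fun p hp => by
    obtain ⟨y, rfl⟩ := (hC p).1 (B.hP.le hp)
    exact ⟨y, (mem_unip hF).2 (hle y hp), rfl⟩
  have heq := Subgroup.eq_of_le_of_card_ge hsub hcard.le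
  refine fun y => ⟨hle y, fun h => ?_⟩
  rw [heq]
  exact ⟨y, (mem_unip hF).2 h, rfl⟩

/-- Composition with an inner automorphism. -/
def twist (p : ↥(stab F q)) : Coord B F where
  hF := W.hF
  emb := W.emb.comp (MulAut.conj p).toMonoidHom
  inj := W.inj.comp (MulAut.conj p).injective
  mem_C g := by
    rw [W.mem_C]
    exact ⟨fun ⟨y, hy⟩ => ⟨(MulAut.conj p).symm y, by
      show W.emb (MulAut.conj p ((MulAut.conj p).symm y)) = g
      rw [MulEquiv.apply_symm_apply, hy]⟩, fun ⟨y, hy⟩ => ⟨_, hy⟩⟩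
  mem_P y := by
    show W.emb (p * y * p⁻¹) ∈ B.P ↔ _
    rw [W.mem_P]
    have h : muHom W.hF (p * y * p⁻¹) = muHom W.hF y := by
      have h' : muHom W.hF p * muHom W.hF p⁻¹ = 1 := by rw [← map_mul, mul_inv_cancel, map_one]
      rw [map_mul, map_mul]; linear_combination muHom W.hF y * h'
    exact Iff.of_eq (by rw [show muC (p * y * p⁻¹) = muC y from h])

theorem exists_conj_hom {k : G} (hk : k ∈ B.M) :
    ∃ θ : ↥(stab F q) →* ↥(stab F q), Function.Injective θ ∧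
      ∀ y, W.emb (θ y) = k * W.emb y * k⁻¹ := by
  choose θ hθ using fun y => (W.mem_C _).1 (B.conj_C_mem hk (W.emb_mem y))
  refine ⟨MonoidHom.mk' θ fun a b => W.inj ?_, fun a b h => W.inj ?_, hθ⟩
  · rw [map_mul, hθ, hθ, hθ, map_mul]; group
  · have := congrArg W.emb h
    simp only [MonoidHom.mk'_apply, hθ] at this
    simpa using this

theorem K_sqrt (ht : B.Out t) {k : G} (hk : k ∈ Base.K ht) : ∃ j ∈ Base.K ht, j * j = k := by
  refine ⟨k ^ (q / 2), pow_mem hk _, ?_⟩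
  obtain ⟨r, hr⟩ := B.toHyp.even_q
  have h2 := B.two_lt
  rw [← pow_add, show q / 2 + q / 2 = q - 1 + 1 by omega, pow_succ, Base.J_pow ht hk, one_mul]

/-- `K` acts linearly. -/
theorem K_linear (ht : B.Out t) {k : G} (hk : k ∈ Base.K ht) :
    ∃ (θ : ↥(stab F q) →* ↥(stab F q)) (l : F), l ≠ 0 ∧ (∀ y, W.emb (θ y) = k * W.emb y * k⁻¹) ∧
      (∀ y, muC (θ y) = muC y) ∧ ∀ p, muC p = 1 → bC (θ p) = l * bC p := by
  classical
  have hF := W.hF
  have hsm : ∀ j : Base.K ht, ∃ (θ : ↥(stab F q) →* ↥(stab F q)) (σ : F →+* F) (β : F), β ≠ 0 ∧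
      (∀ y, W.emb (θ y) = (j : G) * W.emb y * (j : G)⁻¹) ∧ (∀ x, muC (θ x) = σ (muC x)) ∧
      ∀ p, muC p = 1 → muC (θ p) = 1 ∧ bC (θ p) = β * σ (bC p) := by
    intro j
    obtain ⟨θ, hθ, he⟩ := W.exists_conj_hom (Base.K_le_M ht j.2)
    obtain ⟨σ, β, h0, h1, h2⟩ := exists_semilinear hF θ hθ
    exact ⟨θ, σ, β, h0, he, h1, h2⟩
  choose θ σ β hβ hemb hmu hb using hsm
  -- the fixed field
  let Fx : Type v := {c : F // c + c ^ q = 0}
  have hfx : ∀ {c : F}, c ^ q = c → c + c ^ q = 0 := fun {c} h => by rw [h, CharTwo.add_self_eq_zero]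
  have hfx' : ∀ {c : F}, c + c ^ q = 0 → c ^ q = c := fun {c} h => (CharTwo.add_eq_zero.1 h).symm
  have hsqrt : ∀ c : F, c ^ q = c → ∃ b : F, b ^ (q + 1) = c := fun c hc => by
    obtain ⟨l, hl, hl2⟩ := UFrame.exists_sqrt_fixed hF hc
    exact ⟨l, by rw [pow_succ, hl, hl2]⟩
  have hz : ∀ c : F, c ^ q = c → ∃ z : ↥(stab F q), muC z = 1 ∧ bC z = 0 ∧ cC z = c := fun c hc =>
    exists_stab hF (one_pow _) (by rw [hfx hc, zero_pow (Nat.succ_ne_zero q)])
  set N : Base.K ht → F := fun j => β j ^ (q + 1) with hN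
  have hN0 : ∀ j, N j ≠ 0 := fun j => pow_ne_zero _ (hβ j)
  have hNq : ∀ j, N j ^ q = N j := fun j => norm_fixed_q hF _
  have hzim : ∀ j z, muC z = 1 → bC z = 0 →
      muC (θ j z) = 1 ∧ bC (θ j z) = 0 ∧ cC (θ j z) = N j * σ j (cC z) := by
    intro j z z1 z2
    have hc : cC z + cC z ^ q = 0 := by
      rw [(coords hF z).2.1, z2, zero_pow (Nat.succ_ne_zero q)]
    obtain ⟨b, hb'⟩ := hsqrt _ (hfx' hc)
    refine ⟨(hb j z z1).1, by rw [(hb j z z1).2, z2, map_zero, mul_zero], ?_⟩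
    rw [semilinear_centre hF (θ j) (hb j) z1 z2 hb'.symm, hb']
  have hgam : ∀ j i : Base.K ht, ∀ c : F, c ^ q = c →
      N j * σ j (N i * σ i c) = N i * σ i (N j * σ j c) := by
    intro j i c hc
    obtain ⟨z, z1, z2, rfl⟩ := hz c hc
    obtain ⟨a1, a2, a3⟩ := hzim i z z1 z2
    obtain ⟨b1, b2, b3⟩ := hzim j z z1 z2
    rw [← a3, ← b3, ← (hzim j _ a1 a2).2.2, ← (hzim i _ b1 b2).2.2]
    congr 1
    refine W.inj ?_
    rw [hemb, hemb, hemb, hemb]
    have hc : (j : G) * i = i * j := (Base.J_commute ht j.2 i.2).eq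
    calc (j : G) * (i * W.emb z * (i : G)⁻¹) * (j : G)⁻¹
        = (j * i : G) * W.emb z * (j * i : G)⁻¹ := by group
      _ = (i * j : G) * W.emb z * (i * j : G)⁻¹ := by rw [hc]
      _ = _ := by group
  obtain ⟨z₁, u1, u2, u3⟩ := hz 1 (one_pow q)
  have hu : orderOf z₁ = 2 := (orderOf_eq_two_iff hF z₁).2 ⟨u1, u2, by rw [u3]; exact one_ne_zero⟩
  have hinj : ∀ j i : Base.K ht, N j = N i → j = i := by
    intro j i h
    have e : θ j z₁ = θ i z₁ := by
      obtain ⟨a1, a2, a3⟩ := hzim j z₁ u1 u2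
      obtain ⟨b1, b2, b3⟩ := hzim i z₁ u1 u2
      exact stab_ext hF (a1.trans b1.symm) (a2.trans b2.symm)
        (by rw [a3, b3, u3, map_one, map_one, h])
    have hc : Commute (W.emb z₁) ((i : G)⁻¹ * j) := by
      have e' := congrArg W.emb e
      rw [hemb, hemb] at e'
      show W.emb z₁ * ((i : G)⁻¹ * j) = (i : G)⁻¹ * j * W.emb z₁
      calc W.emb z₁ * ((i : G)⁻¹ * j) = (i : G)⁻¹ * ((i : G) * W.emb z₁ * (i : G)⁻¹) * j := by group
        _ = _ := by rw [← e']; group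
    have h1 : (i : G)⁻¹ * j = 1 := by
      by_contra hne
      have := Base.fpf_P ht ((W.mem_P z₁).2 u1) (mul_mem (inv_mem i.2) j.2) hne hc
      exact (inv_iff.1 hu).1 (W.inj (this.trans (map_one W.emb).symm))
    exact Subtype.ext (inv_mul_eq_one.1 h1).symm
  have hsurj : ∀ c : F, c ^ q = c → c ≠ 0 → ∃ j, N j = c := by
    intro c hc hc0
    let T : Type v := {x : Fx // x.1 ≠ 0}
    let g : Base.K ht → T := fun j => ⟨⟨N j, hfx (hNq j)⟩, hN0 j⟩
    have hcT : Nat.card T = q - 1 := by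
      have h0 : (0 : F) + 0 ^ q = 0 := by simp [qne hF]
      calc Nat.card T = Nat.card {x : Fx // x ≠ ⟨0, h0⟩} :=
            Nat.card_congr (Equiv.subtypeEquivRight fun x => ⟨fun h e => h (congrArg Subtype.val e), fun h e => h (Subtype.ext e)⟩)
        _ = _ := by
            rw [Nat.card_eq_fintype_card, Fintype.card_subtype_compl, Fintype.card_subtype_eq,
              ← Nat.card_eq_fintype_card, card_fixed hF]
    have hg : Function.Bijective g := by
      refine (Nat.bijective_iff_injective_and_card g).2 ⟨fun j i h => hinj j i ?_, ?_⟩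
      · exact congrArg (fun x : T => x.1.1) h
      · rw [Base.card_K, hcT]
    obtain ⟨j, hj⟩ := hg.2 ⟨⟨c, hfx hc⟩, hc0⟩
    exact ⟨j, congrArg (fun x : T => x.1.1) hj⟩
  have hid : ∀ j : Base.K ht, ∀ c : F, c ^ q = c → σ j c = c := by
    intro j
    by_cases h1 : N j = 1
    · intro c hc
      rcases eq_or_ne c 0 with rfl | hc0
      · exact map_zero _
      obtain ⟨i, rfl⟩ := hsurj c hc hc0
      have := hgam j i 1 (one_pow q)
      rw [map_one, map_one, mul_one, mul_one, h1, one_mul, map_one, mul_one] at this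
      exact this
    · obtain ⟨l, hl⟩ := hsurj (N j + 1) (by rw [qadd hF, hNq, one_pow])
        (fun e => h1 (CharTwo.add_eq_zero.1 e))
      refine eq_id_of_shift (hN0 j) (map_mul (σ j)) (map_mul (σ l)) (map_one _) (map_one _)
        (S := {c : F | c ^ q = c}) (one_pow q)
        (fun x (hx : x ^ q = x) y (hy : y ^ q = y) => show (x * y) ^ q = x * y by rw [mul_pow, hx, hy])
        (a' := N l) fun c hc => ?_
      rcases eq_or_ne c 0 with rfl | hc0
      · simp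
      obtain ⟨i, rfl⟩ := hsurj c hc hc0
      have e1 := hgam j i 1 (one_pow q)
      have e2 := hgam l i 1 (one_pow q)
      simp only [map_one, mul_one] at e1 e2
      rw [e1, e2, hl, map_add, map_one, mul_add, mul_one]
  have hsq : ∀ j : Base.K ht, ∀ x, σ j (σ j x) = x := by
    intro j x
    let e : F ≃+* F := RingEquiv.ofBijective (σ j)
      (Finite.injective_iff_bijective.1 (RingHom.injective (σ j)))
    have := RingEquiv.congr_fun (field_sq_eq_one hF (σ := e) (hid j)) x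
    exact this
  obtain ⟨j, hj, rfl⟩ := K_sqrt ht hk
  refine ⟨(θ ⟨j, hj⟩).comp (θ ⟨j, hj⟩), β ⟨j, hj⟩ * σ ⟨j, hj⟩ (β ⟨j, hj⟩),
    mul_ne_zero (hβ _) ((map_ne_zero _).2 (hβ _)), fun y => ?_, fun y => ?_, fun p hp => ?_⟩
  · rw [MonoidHom.comp_apply, hemb, hemb]; group
  · rw [MonoidHom.comp_apply, hmu, hmu, hsq]
  · rw [MonoidHom.comp_apply, (hb _ _ (hb _ p hp).1).2, (hb _ p hp).2, map_mul, hsq, mul_assoc]

/-- The elements of `D ∩ C` in coordinates: diagonal for suitable coordinates. -/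
theorem exists_diag_coord (W : Coord B F) (ht : B.Out t) :
    ∃ W' : Coord B F, (∀ y, W'.emb y ∈ B.D t → bC y = 0 ∧ cC y = 0) ∧
      ∀ μ : F, μ ^ (q + 1) = 1 → ∃ y, W'.emb y ∈ B.D t ∧ muC y = μ := by
  have hF := W.hF
  have hlift : ∀ μ : F, μ ^ (q + 1) = 1 → ∃ y, W.emb y ∈ B.D t ∧ muC y = μ := by
    intro μ hμ
    obtain ⟨g, g1, -, -⟩ := exists_stab hF (b := (0 : F)) (c := (0 : F)) hμ (by simp [qne hF])
    have hfix : ∀ k ∈ Base.K ht, k * W.emb g * k⁻¹ * (W.emb g)⁻¹ ∈ B.P := by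
      intro k hk
      obtain ⟨θ, l, -, he, hm, -⟩ := W.K_linear ht hk
      rw [← he, ← map_inv, ← map_mul, W.mem_P, (mul_coords hF _ _).1, (inv_coords hF g).1, hm]
      exact mul_inv_cancel₀ fun h0 => by
        rw [g1] at h0; simp [h0] at hμ
    obtain ⟨e, heD, heC, -, hP⟩ := Base.exists_fixed ht (W.emb_mem g) hfix
    obtain ⟨y, rfl⟩ := (W.mem_C e).1 heC
    refine ⟨y, heD, ?_⟩
    rw [← map_inv, ← map_mul, W.mem_P, (mul_coords hF _ _).1, (inv_coords hF g).1, g1] at hP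
    rw [inv_mul_eq_one₀ (fun h0 => by simp [h0] at hμ)] at hP
    exact hP.symm
  obtain ⟨μ₀, hμ₀, hμ1⟩ := exists_norm_one_ne_one hF
  obtain ⟨y₀, hy₀, m₀⟩ := hlift μ₀ hμ₀
  obtain ⟨p, p1, p2⟩ := exists_unip hF (bC y₀ / (1 + μ₀))
  have hne : (1 : F) + μ₀ ≠ 0 := fun h => hμ1 (CharTwo.add_eq_zero.1 h).symm
  -- conjugate `y₀` to an element with `b = 0`
  have hb₀ : bC (p⁻¹ * y₀ * p) = 0 := by
    obtain ⟨i1, i2⟩ := inv_coords hF p
    rw [(mul_coords hF _ _).2.1, (mul_coords hF _ _).2.1, i2, p1, p2, inv_one, mul_one, mul_one, m₀]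
    field_simp
    linear_combination bC y₀ * (1 + μ₀) * (CharTwo.two_eq_zero (R := F))
  refine ⟨W.twist p, fun y hy => ?_, fun μ hμ => ?_⟩
  swap
  · obtain ⟨y, hy, hm⟩ := hlift μ hμ
    refine ⟨p⁻¹ * y * p, ?_, ?_⟩
    · show W.emb (p * (p⁻¹ * y * p) * p⁻¹) ∈ B.D t
      rwa [show p * (p⁻¹ * y * p) * p⁻¹ = y by group]
    · rw [(mul_coords hF _ _).1, (mul_coords hF _ _).1, (inv_coords hF p).1, p1, inv_one, one_mul,
        mul_one, hm]
  have hy0 : (W.twist p).emb (p⁻¹ * y₀ * p) ∈ B.D t := by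
    show W.emb (p * (p⁻¹ * y₀ * p) * p⁻¹) ∈ B.D t
    rwa [show p * (p⁻¹ * y₀ * p) * p⁻¹ = y₀ by group]
  have hm0 : muC (p⁻¹ * y₀ * p) = μ₀ := by
    rw [(mul_coords hF _ _).1, (mul_coords hF _ _).1, (inv_coords hF p).1, p1, inv_one, one_mul,
      mul_one, m₀]
  have hcomm : ∀ a b, (W.twist p).emb a ∈ B.D t → (W.twist p).emb b ∈ B.D t → a * b = b * a := by
    intro a b ha hb
    set A := (W.twist p).emb a
    set A' := (W.twist p).emb b
    have h := Base.P_inter_D ht (B.hP.comm A ((W.twist p).emb_mem a) A' ((W.twist p).emb_mem b))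
      (mul_mem (mul_mem (mul_mem ha hb) (inv_mem ha)) (inv_mem hb))
    refine (W.twist p).inj ?_
    rw [map_mul, map_mul]
    rw [mul_inv_eq_one, mul_inv_eq_iff_eq_mul] at h
    exact h
  have hall : ∀ y, (W.twist p).emb y ∈ B.D t → bC y = 0 := by
    intro y hy
    have h := congrArg bC (hcomm _ _ hy0 hy)
    rw [(mul_coords hF _ _).2.1, (mul_coords hF y _).2.1, hb₀, hm0] at h
    have h' : bC y * (1 + μ₀) = 0 := by
      linear_combination h + bC y * μ₀ * (CharTwo.two_eq_zero (R := F))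
    exact (mul_eq_zero.1 h').resolve_right hne
  refine ⟨hall y hy, ?_⟩
  obtain ⟨r, hr⟩ := Base.odd_of_mem_D ht hy
  have hy' : (W.twist p).emb (y ^ (r + 1)) ∈ B.D t := by rw [map_pow]; exact pow_mem hy _
  have e : y = y ^ (r + 1) * y ^ (r + 1) := (W.twist p).inj (by
    rw [map_mul, map_pow, ← pow_add, show r + 1 + (r + 1) = 2 * r + 1 + 1 by ring, pow_succ, ← hr,
      pow_orderOf_eq_one, one_mul])
  rw [e, (mul_coords hF _ _).2.2, hall _ hy', zero_mul, zero_mul, add_zero, CharTwo.add_self_eq_zero]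

/-- Every element of the two-point stabiliser acts on the unipotent group by a dilation. -/
theorem exists_dilation (ht : B.Out t) (hdiag : ∀ y, W.emb y ∈ B.D t → bC y = 0 ∧ cC y = 0)
    (hlift : ∀ μ : F, μ ^ (q + 1) = 1 → ∃ y, W.emb y ∈ B.D t ∧ muC y = μ) {d : G} (hd : d ∈ B.D t) :
    ∃ l : Fˣ, ∀ p, muC p = 1 → ∃ p', muC p' = 1 ∧ d * W.emb p * d⁻¹ = W.emb p' ∧
      (bC p', cC p') = hdil q (l : F) (bC p, cC p) := by
  have hF := W.hF
  have hdiagconj : ∀ y, W.emb y ∈ B.D t → ∀ p, muC p = 1 →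
      muC (y * p * y⁻¹) = 1 ∧ bC (y * p * y⁻¹) = bC p * (muC y)⁻¹ ∧ cC (y * p * y⁻¹) = cC p := by
    intro y hy p hp
    obtain ⟨yb, yc⟩ := hdiag y hy
    obtain ⟨c1, c2⟩ := conj_coords hF y p hp
    refine ⟨c1, c2, ?_⟩
    obtain ⟨ib, ic⟩ := hdiag y⁻¹ (by rw [map_inv]; exact inv_mem hy)
    rw [(mul_coords hF _ _).2.2, (mul_coords hF y p).2.2, yb, yc, ib, ic, zero_pow (qne hF)]
    ring
  -- the elements of `C`
  have hE : ∀ e, e ∈ B.D t → e ∈ B.C → ∃ l : Fˣ, ∀ p, muC p = 1 → ∃ p', muC p' = 1 ∧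
      e * W.emb p * e⁻¹ = W.emb p' ∧ (bC p', cC p') = hdil q (l : F) (bC p, cC p) := by
    intro e he heC
    obtain ⟨y, rfl⟩ := (W.mem_C e).1 heC
    have hm := (coords hF y).1
    have hm0 : muC y ≠ 0 := fun h0 => by simp [h0] at hm
    refine ⟨(Units.mk0 _ hm0)⁻¹, fun p hp => ?_⟩
    obtain ⟨c1, c2, c3⟩ := hdiagconj y he p hp
    refine ⟨_, c1, by rw [map_mul, map_mul, map_inv], ?_⟩
    rw [c2, c3]
    simp [hdil, hm, mul_comm]
  -- the elements of `K`
  have hK : ∀ k ∈ Base.K ht, ∃ l : Fˣ, ∀ p, muC p = 1 → ∃ p', muC p' = 1 ∧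
      k * W.emb p * k⁻¹ = W.emb p' ∧ (bC p', cC p') = hdil q (l : F) (bC p, cC p) := by
    intro k hk
    obtain ⟨θ, l, hl, he, hm, hb⟩ := W.K_linear ht hk
    refine ⟨Units.mk0 l hl, fun p hp => ⟨θ p, (hm p).trans hp, (he p).symm, ?_⟩⟩
    set δ : ↥(stab F q) → F := fun p => cC (θ p) + l ^ (q + 1) * cC p with hδ
    have hadd : ∀ a b, muC a = 1 → muC b = 1 → δ (a * b) = δ a + δ b := by
      intro a b ha hb'
      simp only [hδ]
      rw [map_mul, (unip_mul hF ((hm a).trans ha) ((hm b).trans hb')).2.2, (unip_mul hF ha hb').2.2,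
        hb a ha, hb b hb', mul_pow, pow_succ]
      linear_combination (l ^ q * l * bC a * bC b ^ q) * (CharTwo.two_eq_zero (R := F))
    have hcen : ∀ z, muC z = 1 → bC z = 0 → δ z = 0 := by
      intro z z1 z2
      obtain ⟨b, hb'⟩ : ∃ b : F, b ^ (q + 1) = cC z := by
        have hc : cC z + cC z ^ q = 0 := by
          rw [(coords hF z).2.1, z2, zero_pow (Nat.succ_ne_zero q)]
        obtain ⟨r, hr, hr2⟩ := UFrame.exists_sqrt_fixed hF (CharTwo.add_eq_zero.1 hc).symm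
        exact ⟨r, by rw [pow_succ, hr, hr2]⟩
      obtain ⟨p, p1, p2⟩ := exists_unip hF b
      obtain ⟨a1, a2, a3⟩ := unip_mul hF p1 p1
      have e : z = p * p := stab_ext hF (z1.trans a1.symm)
        (by rw [z2, a2, CharTwo.add_self_eq_zero])
        (by rw [← hb', a3, p2, CharTwo.add_self_eq_zero, zero_add, pow_succ'])
      rw [e, hadd p p p1 p1, CharTwo.add_self_eq_zero]
    obtain ⟨μ, hμ, hμ1⟩ := exists_norm_one_ne_one hF
    obtain ⟨y, hy, my⟩ := hlift μ hμ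
    have hθy : θ y = y := W.inj (by
      rw [he]
      exact mul_inv_eq_iff_eq_mul.2 (Base.commute_J ht hk hy (W.emb_mem y)).eq)
    have hμ0 : μ ≠ 0 := fun h0 => by simp [h0] at hμ
    have hne : μ⁻¹ + 1 ≠ 0 := fun h => hμ1 (inv_eq_one.1 (CharTwo.add_eq_zero.1 h))
    have hδ0 : δ p = 0 := by
      obtain ⟨a, a1, a2⟩ := exists_unip hF (bC p / (μ⁻¹ + 1))
      obtain ⟨c1, c2, c3⟩ := hdiagconj y hy a a1
      have hinv : δ (y * a * y⁻¹) = δ a := by
        simp only [hδ]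
        rw [c3, map_mul, map_mul, map_inv, hθy, (hdiagconj y hy (θ a) ((hm a).trans a1)).2.2]
      obtain ⟨s1, s2, -⟩ := unip_mul hF c1 a1
      obtain ⟨i1, i2⟩ := inv_coords hF (y * a * y⁻¹ * a)
      have m1 : muC (y * a * y⁻¹ * a)⁻¹ = 1 := by rw [i1, s1, inv_one]
      obtain ⟨w1, w2, -⟩ := unip_mul hF m1 hp
      have w2' : bC ((y * a * y⁻¹ * a)⁻¹ * p) = 0 := by
        have a2' : bC a * (μ⁻¹ + 1) = bC p := by rw [a2, div_mul_cancel₀ _ hne]
        rw [w2, i2, s1, inv_one, mul_one, s2, c2, my]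
        linear_combination a2' + bC p * (CharTwo.two_eq_zero (R := F))
      rw [show p = y * a * y⁻¹ * a * ((y * a * y⁻¹ * a)⁻¹ * p) by rw [mul_inv_cancel_left],
        hadd _ _ s1 w1, hcen _ w1 w2', add_zero, hadd _ _ c1 a1, hinv, CharTwo.add_self_eq_zero]
    rw [hb p hp]
    exact Prod.ext rfl (CharTwo.add_eq_zero.1 hδ0)
  obtain ⟨k, hk, hkC⟩ := Base.exists_J ht ((Base.mem_D ht).1 hd).1
  have he : k⁻¹ * d ∈ B.D t := mul_mem (inv_mem (Base.J_mem_D ht hk)) hd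
  obtain ⟨l₁, h₁⟩ := hK k hk
  obtain ⟨l₂, h₂⟩ := hE _ he hkC
  refine ⟨l₁ * l₂, fun p hp => ?_⟩
  obtain ⟨p', hp', e', c'⟩ := h₂ p hp
  obtain ⟨p'', hp'', e'', c''⟩ := h₁ p' hp'
  refine ⟨p'', hp'', ?_, by rw [c'', c', hdil_hdil, Units.val_mul]⟩
  rw [← e'', ← e']; group

end Coord

end Cfsg.Agent.Lib.UThreeTwoRecog26
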